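import Groth.Agent.MaxTorTransp.Descend

/-!
# A maximal torus from a central one in a closed subgroup after a covering
-/

universe u

open CategoryTheory CategoryTheory.Limits MonoidalCategory CartesianMonoidalCategory MonObj AlgebraicGeometry

set_option backward.isDefEq.respectTransparency false
set_option backward.isDefEq.respectTransparency.types false
set_option linter.style.haveILetI false
set_option synthInstance.maxHeartbeats 80000
set_option autoImplicit false

namespace Groth.Agent.TorsionCent

open GrpSchLib GrpLimLib MaxTorCent MaxTorTransp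

variable {S : Scheme.{u}}

/-- A monomorphism through which a maximal torus factors contains it as a maximal torus. -/
theorem isMaximalTorus_of_comp {G Z T : Over S} [GrpObj G] [GrpObj Z] [GrpObj T] (t : T ⟶ Z) (j : Z ⟶ G)
    [IsMonHom j] [Mono j] (h : Red.IsMaximalTorus (t ≫ j)) : Red.IsMaximalTorus t := by
  haveI := h.1; haveI := h.2.1
  haveI : IsMonHom t := AGFLib.isMonHom_of_mul t fun X a b => by
    rw [← cancel_mono j, Category.assoc, MonObj.mul_comp a b (t ≫ j), MonObj.mul_comp, Category.assoc, Category.assoc]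
  refine ⟨inferInstance, mono_of_mono t j, h.2.2.1, fun s U _ k _ _ f hU hf => ?_⟩
  haveI : (Over.pullback (Red.geomPt s)).IsRightAdjoint := (Over.mapPullbackAdj (Red.geomPt s)).isRightAdjoint
  exact h.2.2.2 s U (k ≫ (Over.pullback (Red.geomPt s)).map j) f hU (by
    rw [← Category.assoc, hf, Functor.map_comp])

/-- A maximal torus of a covering which is central in a closed subgroup descends. -/
theorem exists_maximalTorus_of_central {G C : Over S} [GrpObj G] [GrpObj C] [Smooth G.hom] [IsSeparated G.hom]
    [QuasiCompact G.hom] (c : C ⟶ G) [IsMonHom c] [IsClosedImmersion c.left] [Smooth C.hom]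
    {S' : Scheme.{u}} (π : S' ⟶ S) [Flat π] [Surjective π] (hπ : FpqcDescLib.IsCovering π)
    {T' : Over S'} [GrpObj T'] (t' : T' ⟶ Red.bc π C)
    (ht' : Red.IsMaximalTorus (t' ≫ (Over.pullback π).map c))
    (htc : ∀ {X : Over S'} (g : X ⟶ Red.bc π C) (x : X ⟶ T'), g * (x ≫ t') = (x ≫ t') * g) :
    ∃ (T : Over S) (_ : GrpObj T) (i : T ⟶ G), Red.IsMaximalTorus i := by
  haveI : Mono c := haveI : Mono c.left := inferInstance; Over.mono_of_mono_left _
  haveI : (Over.pullback π).IsRightAdjoint := (Over.mapPullbackAdj π).isRightAdjoint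
  haveI : Smooth (Red.bc π G).hom := inferInstanceAs (Smooth (pullback.snd G.hom π))
  haveI : IsSeparated (Red.bc π G).hom := inferInstanceAs (IsSeparated (pullback.snd G.hom π))
  haveI : QuasiCompact (Red.bc π G).hom := inferInstanceAs (QuasiCompact (pullback.snd G.hom π))
  haveI : IsSeparated C.hom := by rw [← Over.w c]; infer_instance
  haveI : QuasiCompact C.hom := by rw [← Over.w c]; infer_instance
  haveI : IsSeparated (Red.bc π C).hom := inferInstanceAs (IsSeparated (pullback.snd C.hom π))
  haveI : Smooth (Red.bc π C).hom := inferInstanceAs (Smooth (pullback.snd C.hom π))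
  haveI : QuasiCompact (Red.bc π C).hom := inferInstanceAs (QuasiCompact (pullback.snd C.hom π))
  have htm : Red.IsMaximalTorus t' := isMaximalTorus_of_comp t' ((Over.pullback π).map c) ht'
  haveI := htm.1; haveI := htm.2.1
  obtain ⟨T, _, t, ht1, ht2, φ, hφ⟩ := exists_descent_mono t' hπ (TorusQI.isMultTypeFT_of_isTorus htm.2.2.1)
    fun X a b hab ⟨l, hl⟩ => key_of_central t' htm htc X a b hab l hl
  haveI := ht1; haveI := ht2
  haveI : IsMonHom φ.hom := AGFLib.isMonHom_of_mul φ.hom fun X a b => by
    rw [← cancel_mono t', Category.assoc, hφ, MonObj.mul_comp, MonObj.mul_comp, Category.assoc, Category.assoc, hφ]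
  have hT : Red.IsTorus T := isTorus_of_bc π hπ φ htm.2.2.1
  have hmax : Red.IsMaximalTorus (t ≫ c) := by
    refine (MaxTorusBC.isMaximalTorus_bc_iff (t ≫ c) hT π ‹_›).mpr ?_
    obtain ⟨h1, h2, h3, h4⟩ := ht'
    refine ⟨inferInstance, inferInstance, SolvGrp.isTorus_bc π hT, fun s U _ j _ _ f hU hf => ?_⟩
    haveI : (Over.pullback (Red.geomPt s)).IsRightAdjoint := (Over.mapPullbackAdj (Red.geomPt s)).isRightAdjoint
    let e := (Over.pullback (Red.geomPt s)).mapIso φ
    haveI : IsIso (e.inv ≫ f) := h4 s U j (e.inv ≫ f) hU (by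
      rw [Category.assoc, hf, Iso.inv_comp_eq]
      simp only [e, Functor.mapIso_hom, ← Functor.map_comp]
      rw [← Category.assoc, hφ, Functor.map_comp])
    haveI : IsIso e.inv := Iso.isIso_inv e
    exact IsIso.of_isIso_comp_left e.inv f
  exact ⟨T, inferInstance, t ≫ c, hmax⟩

end Groth.Agent.TorsionCent
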