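import Groth.Agent.TorsionCent.Util
import Groth.Agent.MaxTorTransp.Cartan
import Groth.Agent.FixTorus.TorusSmooth

/-!
# The locus of tuples generating the torsion of a torus
-/

universe u

open CategoryTheory CategoryTheory.Limits MonoidalCategory CartesianMonoidalCategory MonObj AlgebraicGeometry

set_option backward.isDefEq.respectTransparency false
set_option backward.isDefEq.respectTransparency.types false
set_option linter.style.haveILetI false
set_option synthInstance.maxHeartbeats 80000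
set_option autoImplicit false

namespace Groth.Agent.TorsionCent

open GrpSchLib AGFLib AGFLib.Gen SolvGrp

variable {A : Type u} [CommRing A]

local notation "SA" => Spec (CommRingCat.of A)

theorem locus_open {T : Over SA} [GrpObj T] {n : ℕ} [NeZero n] {r : ℕ} {H K : Over SA} (κ : K ⟶ T) [Mono κ]
    [IsFinite K.hom] [Etale K.hom] [LocallyOfFiniteType H.hom] (y : (Fin r → ZMod n) → (H ⟶ T))
    (hK : ∀ (Y : Over SA) (h : Y ⟶ T), h ^ n = 1 ↔ ∃ l, l ≫ κ = h) (hyn : ∀ a, y a ^ n = 1) :
    ∃ W : H.left.Opens,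
      (∀ (Ω : Type u) [Field Ω] [IsAlgClosed Ω] (b : Spec (CommRingCat.of Ω) ⟶ SA) (l : 𝟙_ (Over _) ⟶ Red.bc b H),
        (DSPtsLib.theta b l).left (IsLocalRing.closedPoint Ω) ∈ W ↔
          ∀ τ : 𝟙_ (Over _) ⟶ Red.bc b T, τ ^ n = 1 → ∃ a, l ≫ (Over.pullback b).map (y a) = τ) := by
  classical
  choose l hl using fun a => (hK H (y a)).mp (hyn a)
  let P := pullback H.hom K.hom
  let π : P ⟶ H.left := pullback.fst H.hom K.hom
  haveI : IsFinite π := inferInstanceAs (IsFinite (pullback.fst H.hom K.hom))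
  haveI : Etale π := inferInstanceAs (Etale (pullback.fst H.hom K.hom))
  let σ : (Fin r → ZMod n) → (H.left ⟶ P) := fun a =>
    pullback.lift (𝟙 _) (l a).left (by rw [Category.id_comp, Over.w (l a)])
  have hσ : ∀ a, σ a ≫ π = 𝟙 _ := fun a => pullback.lift_fst _ _ _
  haveI : ∀ a, IsClosedImmersion (σ a) := fun a => by
    haveI : IsClosedImmersion (σ a ≫ π) := by rw [hσ a]; infer_instance
    exact IsClosedImmersion.of_comp (σ a) π
  haveI : ∀ a, IsOpenImmersion (σ a) := fun a => EtFound.isOpenImmersion_section π (σ a) (hσ a)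
  let R : Set P := ⋃ a, Set.range (σ a)
  have hRo : IsOpen R := isOpen_iUnion fun a => (σ a).isOpenEmbedding.isOpen_range
  have hRc : IsClosed R := isClosed_iUnion_of_finite fun a => (σ a).isClosedEmbedding.isClosed_range
  refine ⟨⟨(π '' Rᶜ)ᶜ, (π.isClosedMap _ hRo.isClosed_compl).isOpen_compl⟩, fun Ω _ _ b h => ?_⟩
  let e : Spec (CommRingCat.of Ω) ⟶ H.left := (DSPtsLib.theta b h).left
  have he : e ≫ H.hom = b := (Over.w (DSPtsLib.theta b h)).trans (Category.id_comp b)
  haveI : Subsingleton ↥(Spec (CommRingCat.of Ω)) := inferInstanceAs (Subsingleton (PrimeSpectrum Ω))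
  show e (IsLocalRing.closedPoint Ω) ∉ π '' Rᶜ ↔ _
  constructor
  · intro hw τ hτ
    obtain ⟨lτ, hlτ⟩ := (hK _ (DSPtsLib.theta b τ)).mp (by rw [← theta_npow, hτ, HomUnitLocus.theta_one])
    let p : Spec (CommRingCat.of Ω) ⟶ P := pullback.lift e lτ.left (by
      rw [he, Over.w lτ]
      exact (Category.id_comp b).symm)
    have hp : p ≫ π = e := pullback.lift_fst _ _ _
    have hmem : p (IsLocalRing.closedPoint Ω) ∈ R := by
      by_contra hn
      exact hw ⟨_, hn, by rw [← Scheme.Hom.comp_apply, hp]⟩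
    obtain ⟨a, ha⟩ := Set.mem_iUnion.mp hmem
    obtain ⟨d, hd⟩ := H23.RedSub.exists_lift_closed p (σ a) (by
      rintro _ ⟨x, rfl⟩
      rwa [Subsingleton.elim x (IsLocalRing.closedPoint Ω)])
    have hde : d = e := by
      rw [← hp, ← hd, Category.assoc, hσ, Category.comp_id]
    subst hde
    refine ⟨a, theta_left_ext b ?_⟩
    rw [theta_left_map, ← hlτ, Over.comp_left, ← hl a, Over.comp_left]
    have h2 := congrArg (· ≫ pullback.snd H.hom K.hom) hd
    simp only [σ, p, Category.assoc, pullback.lift_snd] at h2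
    rw [← Category.assoc, h2]
  · rintro hsurj ⟨u, hu, hue⟩
    let X : Over (Spec (CommRingCat.of Ω)) := Over.mk (pullback.snd π e)
    haveI : IsFinite X.hom := inferInstanceAs (IsFinite (pullback.snd π e))
    haveI : JacobsonSpace X.left := LocallyOfFiniteType.jacobsonSpace X.hom
    haveI : JacobsonSpace ↥(pullback π e) := ‹JacobsonSpace X.left›
    obtain ⟨z, hz1, -⟩ := Scheme.Pullback.exists_preimage_pullback (f := π) (g := e) u (IsLocalRing.closedPoint Ω) hue
    obtain ⟨z', hz', hz'c⟩ := nonempty_inter_closedPoints (Z := (pullback.fst π e) ⁻¹' Rᶜ)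
      ⟨z, show pullback.fst π e z ∈ Rᶜ by rw [hz1]; exact hu⟩
      (hRc.isOpen_compl.preimage (pullback.fst π e).continuous).isLocallyClosed
    obtain ⟨g, rfl⟩ := exists_cp (Z := X) hz'c
    let p : Spec (CommRingCat.of Ω) ⟶ P := g.left ≫ pullback.fst π e
    have hp : p ≫ π = e := by
      simp only [p, Category.assoc, pullback.condition]
      rw [← Category.assoc]
      exact (congrArg (· ≫ e) (Over.w g)).trans (Category.id_comp e)
    let k : Spec (CommRingCat.of Ω) ⟶ K.left := p ≫ pullback.snd H.hom K.hom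
    have hk : k ≫ K.hom = b := by
      rw [Category.assoc, ← pullback.condition, ← Category.assoc, hp, he]
    obtain ⟨zk, hzk⟩ := exists_pt b k hk
    obtain ⟨a, ha⟩ := hsurj (zk ≫ (Over.pullback b).map κ) ((DSPtsLib.theta_bijective b).1 (by
      rw [theta_npow, HomUnitLocus.theta_one, hK]
      exact ⟨DSPtsLib.theta b zk, ((Over.mapPullbackAdj b).homEquiv_naturality_right_symm zk κ).symm⟩))
    have hpa : e ≫ σ a = p := by
      refine pullback.hom_ext ?_ ?_
      · rw [Category.assoc, pullback.lift_fst, Category.comp_id]; exact hp.symm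
      · haveI : Mono κ.left := inferInstanceAs (Mono ((Over.forget _).map κ))
        rw [Category.assoc, pullback.lift_snd, ← cancel_mono κ.left, Category.assoc, ← Over.comp_left, hl]
        have h2 := congrArg (fun t => (DSPtsLib.theta b t).left) ha
        simp only [theta_left_map, hzk] at h2
        exact h2
    refine (hz' : p (IsLocalRing.closedPoint Ω) ∈ Rᶜ) (Set.mem_iUnion.mpr ⟨a, e (IsLocalRing.closedPoint Ω), ?_⟩)
    rw [← Scheme.Hom.comp_apply, hpa]
    rfl

/-- The torsion points of a multiplicative type group over an algebraically closed field form a finite set. -/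
theorem finite_torsion {T : Over SA} [GrpObj T] {n : ℕ} {K : Over SA} (κ : K ⟶ T) [IsFinite K.hom]
    (hK : ∀ (Y : Over SA) (h : Y ⟶ T), h ^ n = 1 ↔ ∃ l, l ≫ κ = h) (Ω : Type u) [Field Ω] [IsAlgClosed Ω]
    (b : Spec (CommRingCat.of Ω) ⟶ SA) : {τ : 𝟙_ (Over _) ⟶ Red.bc b T | τ ^ n = 1}.Finite := by
  haveI : IsFinite (Red.bc b K).hom := inferInstanceAs (IsFinite (pullback.snd K.hom b))
  haveI : Finite (𝟙_ (Over (Spec (CommRingCat.of Ω))) ⟶ Red.bc b K) := by
    haveI : Finite (Red.bc b K).left := by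
      refine Set.finite_univ_iff.mp (((Red.bc b K).hom.finite_preimage_singleton (IsLocalRing.closedPoint Ω)).subset ?_)
      intro x _
      haveI : Subsingleton ↥(Spec (CommRingCat.of Ω)) := inferInstanceAs (Subsingleton (PrimeSpectrum Ω))
      exact Subsingleton.elim ((Red.bc b K).hom x) _
    exact Finite.of_injective cp fun a c h => cp_injective h
  refine (Set.finite_range fun z => z ≫ (Over.pullback b).map κ).subset fun τ hτ => ?_
  obtain ⟨l, hl⟩ := (hK _ (DSPtsLib.theta b τ)).mp (by rw [← theta_npow, show τ ^ n = 1 from hτ, HomUnitLocus.theta_one])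
  obtain ⟨z, hz⟩ := (DSPtsLib.theta_bijective b).2 l
  exact ⟨z, (DSPtsLib.theta_bijective b).1 (by
    rw [← hl, ← hz]; exact (Over.mapPullbackAdj b).homEquiv_naturality_right_symm z κ)⟩

set_option maxHeartbeats 800000 in
/-- Tuples in a torus generating its torsion: their centralizer is the centralizer of the torus. -/
theorem exists_good_locus {G T C : Over SA} [GrpObj G] [GrpObj T] [GrpObj C] [Smooth G.hom] [IsSeparated G.hom]
    [QuasiCompact G.hom] [Smooth C.hom] (i : T ⟶ G) [IsMonHom i] (hT : Red.IsTorus T) (c : C ⟶ G)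
    [IsClosedImmersion c.left] (hc : Red.IsCentralizerOf i c) (q : ℕ) (hq : q.Prime) (hqu : IsUnit (q : Γ(SA, ⊤))) :
    ∃ (n : ℕ) (_ : NeZero n), IsUnit (n : Γ(SA, ⊤)) ∧ (∃ j, n = q ^ j) ∧
      (∀ (Ω : Type u) [Field Ω] [IsAlgClosed Ω] (b : Spec (CommRingCat.of Ω) ⟶ SA),
        {τ : 𝟙_ (Over _) ⟶ Red.bc b T | τ ^ n = 1}.Finite) ∧
      ∀ r : ℕ, ∃ (H : Over SA) (y : (Fin r → ZMod n) → (H ⟶ T)) (W : H.left.Opens),
        Smooth H.hom ∧ y 0 = 1 ∧ (∀ a b, y (a + b) = y a * y b) ∧
        (∀ (Y : Over SA) (f : (Fin r → ZMod n) → (Y ⟶ T)), (∀ a b, f (a + b) = f a * f b) →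
          ∃ l : Y ⟶ H, ∀ a, l ≫ y a = f a) ∧
        (∀ (Ω : Type u) [Field Ω] [IsAlgClosed Ω] (b : Spec (CommRingCat.of Ω) ⟶ SA)
          (l : 𝟙_ (Over _) ⟶ Red.bc b H), (DSPtsLib.theta b l).left (IsLocalRing.closedPoint Ω) ∈ W ↔
            ∀ τ : 𝟙_ (Over _) ⟶ Red.bc b T, τ ^ n = 1 → ∃ a, l ≫ (Over.pullback b).map (y a) = τ) ∧
        ∀ (X : Over SA) (h : X ⟶ H), Set.range h.left ⊆ W → ∀ g : X ⟶ G,
          (∀ a, g * (h ≫ y a ≫ i) = (h ≫ y a ≫ i) * g) → ∃ w, w ≫ c = g := by
  obtain ⟨m, hm⟩ := exists_level i hT c hc q hq hqu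
  let n := q ^ m
  haveI hn0 : NeZero n := ⟨pow_ne_zero _ hq.ne_zero⟩
  have hn : IsUnit (n : Γ(SA, ⊤)) := by rw [Nat.cast_pow]; exact hqu.pow m
  have hTm := TorusQI.isMultTypeFT_of_isTorus hT
  haveI := MultTypeLfp.lfp hTm
  haveI : IsAffineHom T.hom := (TransLib.multTypeFT_essFree hTm).1
  haveI : Smooth T.hom := FixTorus.smooth_of_isTorus hT
  obtain ⟨K, κ, hκ, hKf, hKe, hK⟩ := exists_torsion hTm n (NeZero.pos n) hn
  haveI := hκ; haveI := hKf; haveI := hKe
  refine ⟨n, hn0, hn, ⟨m, rfl⟩, fun Ω _ _ b => finite_torsion κ hK Ω b, fun r => ?_⟩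
  obtain ⟨H, y, hHs, -, -, hy0, hyadd, huniv⟩ := exists_homScheme (G := T) hn r
  haveI := hHs
  have hysm : ∀ (a : Fin r → ZMod n) (k : ℕ), y (k • a) = y a ^ k := fun a k => by
    induction k with
    | zero => rw [zero_smul, hy0, pow_zero]
    | succ k ih => rw [succ_nsmul, hyadd, ih, pow_succ]
  have hyn : ∀ a, y a ^ n = 1 := fun a => by
    rw [← hysm, show n • a = 0 from funext fun k => by
      rw [Pi.smul_apply, nsmul_eq_mul, ZMod.natCast_self, zero_mul, Pi.zero_apply], hy0]
  obtain ⟨W, hW⟩ := locus_open κ y hK hyn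
  refine ⟨H, y, W, hHs, hy0, hyadd, huniv, hW, ?_⟩
  -- the centralizer of the tautological tuple over the good locus
  let Sw : Scheme.{u} := W
  let ω : Sw ⟶ SA := W.ι ≫ H.hom
  haveI : Smooth (Red.bc ω G).hom := inferInstanceAs (Smooth (pullback.snd G.hom ω))
  haveI : IsSeparated (Red.bc ω G).hom := inferInstanceAs (IsSeparated (pullback.snd G.hom ω))
  haveI : Smooth (Red.bc ω C).hom := inferInstanceAs (Smooth (pullback.snd C.hom ω))
  let hW0 : (Over.map ω).obj (𝟙_ (Over Sw)) ⟶ H := Over.homMk W.ι (Category.id_comp ω).symm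
  choose x hx using fun a => (DSPtsLib.theta_bijective (g := ω) (Y := 𝟙_ (Over Sw)) (H := G)).2 (hW0 ≫ y a ≫ i)
  have hcomm : ∀ a b, y a * y b = y b * y a := fun a b => GrpSchLib.MultTypeComm.points_comm hTm _ _
  have hxn : ∀ a, x a ^ n = 1 := fun a => (DSPtsLib.theta_bijective ω).1 (by
    rw [theta_npow, hx, ← comp_npow', ← npow_comp', hyn, MonObj.one_comp, MonObj.comp_one, HomUnitLocus.theta_one])
  have hxc : ∀ a b, x a * x b = x b * x a := fun a b => (DSPtsLib.theta_bijective ω).1 (by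
    rw [DSPtsLib.theta_mul, DSPtsLib.theta_mul, hx, hx, ← MonObj.comp_mul, ← MonObj.comp_mul, ← MonObj.mul_comp,
      ← MonObj.mul_comp, hcomm])
  have hn' : IsUnit (n : Γ(Sw, ⊤)) := by rw [← map_natCast ω.appTop.hom]; exact hn.map _
  obtain ⟨Z, _, j, hjm, hjc, hZs, hZ⟩ := exists_cent hn' x hxn hxc
  haveI := hjm; haveI := hjc; haveI := hZs
  haveI := hc.1; haveI := hc.2.1
  let cw : Red.bc ω C ⟶ Red.bc ω G := (Over.pullback ω).map c
  haveI : IsClosedImmersion cw.left :=
    MorphismProperty.of_isPullback (P := @IsClosedImmersion) (HomSplitLocal.isPullback_map c ω) ‹_›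
  obtain ⟨a, ha⟩ := (hZ _ cw).mpr fun k => (DSPtsLib.theta_bijective ω).1 (by
    rw [DSPtsLib.theta_mul, DSPtsLib.theta_mul, DSPtsLib.theta_comp, hx]
    have e : DSPtsLib.theta ω cw = DSPtsLib.theta ω (𝟙 (Red.bc ω C)) ≫ c := by
      rw [← HomUnitLocus.theta_comp_map, Category.id_comp]
    rw [e]
    have h := (hc.2.2 C c).mp ⟨𝟙 C, Category.id_comp c⟩ _ (DSPtsLib.theta ω (𝟙 (Red.bc ω C)))
      ((Over.map ω).map (toUnit (Red.bc ω C)) ≫ hW0 ≫ y k)
    simpa only [Category.assoc] using h)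
  haveI : Mono cw := haveI : Mono cw.left := inferInstance; Over.mono_of_mono_left _
  haveI : Mono a := mono_of_mono_fac ha
  haveI : IsMonHom a := AGFLib.isMonHom_of_mul a fun Y u v => by
    haveI : Mono j := haveI : Mono j.left := inferInstance; Over.mono_of_mono_left _
    rw [← cancel_mono j, Category.assoc, ha, MonObj.mul_comp, MonObj.mul_comp, Category.assoc, Category.assoc, ha]
  haveI hiso : IsIso a := by
    refine MaxTorTransp.isIso_of_fibre_sections a fun s => ?_
    let b₁ := Red.geomPt s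
    let Ω := AlgebraicClosure (Sw.residueField s)
    haveI : Smooth (Red.bc b₁ Z).hom := inferInstanceAs (Smooth (pullback.snd Z.hom b₁))
    haveI : IsReduced (Red.bc b₁ Z).left := isReduced_of_smooth_field (Red.bc b₁ Z).hom
    let a₁ := (Over.pullback b₁).map a
    haveI : IsClosedImmersion a.left := by
      haveI : IsClosedImmersion (a.left ≫ j.left) := by rw [← Over.comp_left, ha]; infer_instance
      exact IsClosedImmersion.of_comp a.left j.left
    haveI : IsClosedImmersion a₁.left :=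
      MorphismProperty.of_isPullback (P := @IsClosedImmersion) (HomSplitLocal.isPullback_map a b₁) ‹_›
    have hsurj : ∀ z : 𝟙_ (Over (Spec (CommRingCat.of Ω))) ⟶ Red.bc b₁ Z, cp z ∈ Set.range a₁.left := by
      intro z
      let b : Spec (CommRingCat.of Ω) ⟶ SA := b₁ ≫ ω
      let g := (z ≫ (Over.pullback b₁).map j) ≫ (GrpLimLib.cmp (rfl : b₁ ≫ ω = b) G).hom
      obtain ⟨l, hl⟩ := exists_pt (X := H) b (b₁ ≫ W.ι) (Category.assoc _ _ _)
      have hlW : (DSPtsLib.theta b l).left (IsLocalRing.closedPoint Ω) ∈ W := by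
        rw [hl, Scheme.Hom.comp_apply]
        exact (b₁ (IsLocalRing.closedPoint Ω)).2
      obtain ⟨w, hw⟩ := hm Ω b g fun τ hτ => by
        obtain ⟨k, rfl⟩ := (hW Ω b l).mp hlW τ hτ
        haveI := GrpLimLib.isMonHom_cmp (rfl : b₁ ≫ ω = b) G
        have hcm := (hZ Z j).mp ⟨𝟙 _, Category.id_comp _⟩ k
        have h2 := congrArg (fun t => DSPtsLib.theta b₁ z ≫ t) hcm
        simp only [MonObj.comp_mul, ← HomUnitLocus.theta_comp_map, ← Category.assoc] at h2
        obtain ⟨v, hv0⟩ : ∃ v, v = (z ≫ (Over.pullback b₁).map (toUnit Z)) ≫ (Over.pullback b₁).map (x k) := ⟨_, rfl⟩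
        have hv : DSPtsLib.theta b₁ v = (DSPtsLib.theta b₁ z ≫ toUnit Z) ≫ x k := by
          rw [hv0, ← HomUnitLocus.theta_comp_map, ← HomUnitLocus.theta_comp_map]
        rw [← DSPtsLib.theta_mul, ← DSPtsLib.theta_mul, ← hv0] at h2
        have h3 := (DSPtsLib.theta_bijective b₁).1 h2
        have e : (l ≫ (Over.pullback b).map (y k)) ≫ (Over.pullback b).map i =
            v ≫ (GrpLimLib.cmp (rfl : b₁ ≫ ω = b) G).hom := by
          refine theta_left_ext b ?_
          rw [theta_left_map, theta_left_map, theta_left_cmp, hv, hl]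
          have hx' : (x k).left ≫ pullback.fst G.hom ω = (hW0 ≫ y k ≫ i).left := congrArg CommaMorphism.left (hx k)
          have hb1 : (DSPtsLib.theta b₁ z).left ≫ (toUnit Z).left = b₁ :=
            (Category.comp_id _).symm.trans ((Over.w (DSPtsLib.theta b₁ z ≫ toUnit Z)).trans (Category.id_comp b₁))
          simp only [Over.comp_left, Category.assoc, hx']
          rw [← Category.assoc _ (toUnit Z).left, hb1]
          rfl
        rw [e]
        simp only [g, ← MonObj.mul_comp]
        rw [h3]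
      obtain ⟨w', hw'⟩ := (DSPtsLib.theta_bijective (g := b₁) (Y := 𝟙_ (Over (Spec (CommRingCat.of Ω))))).2
        (Over.homMk (pullback.lift (DSPtsLib.theta b w).left b₁ ((Over.w (DSPtsLib.theta b w)).trans (Category.id_comp b)))
          (by erw [pullback.lift_snd]; exact (Category.id_comp b₁).symm) :
          (Over.map b₁).obj (𝟙_ _) ⟶ Red.bc ω C)
      have hz : w' ≫ a₁ = z := by
        haveI : Mono j := haveI : Mono j.left := inferInstance; Over.mono_of_mono_left _
        haveI : (Over.pullback b₁).IsRightAdjoint := (Over.mapPullbackAdj b₁).isRightAdjoint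
        rw [← cancel_mono ((Over.pullback b₁).map j), ← cancel_mono (GrpLimLib.cmp (rfl : b₁ ≫ ω = b) G).hom,
          Category.assoc w', ← Functor.map_comp, ha]
        show _ = g
        refine theta_left_ext b ?_
        rw [← hw, theta_left_map, theta_left_cmp, theta_left_map, hw']
        simp only [Over.homMk_left, Category.assoc]
        rw [GrpLimLib.map_left_fst, pullback.lift_fst_assoc]
      exact ⟨cp w', by rw [← cp_comp, hz]⟩
    haveI : LocallyOfFiniteType (Red.bc b₁ Z).hom := inferInstance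
    have hu := eq_univ_of_forall_cp a₁.left.isClosedEmbedding.isClosed_range hsurj
    obtain ⟨d, hd⟩ := H23.RedSub.exists_lift_closed (𝟙 (Red.bc b₁ Z).left) a₁.left (by
      rintro _ ⟨p, rfl⟩
      rw [hu]; trivial)
    exact ⟨Over.homMk d (by rw [← Over.w a₁, reassoc_of% hd]), Over.OverMorphism.ext hd⟩
  intro X h hX g hg
  let hw : X.left ⟶ Sw := IsOpenImmersion.lift W.ι h.left (by rwa [Scheme.Opens.range_ι])
  have hhw : hw ≫ W.ι = h.left := IsOpenImmersion.lift_fac _ _ _
  let X' : Over Sw := Over.mk hw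
  let e : X ≅ (Over.map ω).obj X' := Over.isoMk (Iso.refl _) (by
    show 𝟙 _ ≫ hw ≫ W.ι ≫ H.hom = X.hom
    rw [Category.id_comp, ← Category.assoc, hhw, Over.w h])
  obtain ⟨g', hg'⟩ := (DSPtsLib.theta_bijective (g := ω) (Y := X') (H := G)).2 (e.inv ≫ g)
  obtain ⟨z, hz⟩ := (hZ X' g').mpr fun k => (DSPtsLib.theta_bijective ω).1 (by
    have e' : (Over.map ω).map (toUnit X') ≫ hW0 = e.inv ≫ h :=
      Over.OverMorphism.ext (hhw.trans (Category.id_comp _).symm)
    rw [DSPtsLib.theta_mul, DSPtsLib.theta_mul, hg', DSPtsLib.theta_comp, hx, ← Category.assoc _ hW0, e',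
      Category.assoc, ← MonObj.comp_mul, ← MonObj.comp_mul, hg])
  refine ⟨e.hom ≫ DSPtsLib.theta ω (z ≫ inv a), ?_⟩
  rw [Category.assoc, ← HomUnitLocus.theta_comp_map, Category.assoc, ← (IsIso.eq_inv_comp a).mpr ha, hz, hg',
    Iso.hom_inv_id_assoc]

end Groth.Agent.TorsionCent
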