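import Groth.Agent.MultTypeImage.Image
import Groth.Agent.MaxTorusBC.Fibre
import Groth.Agent.MaxTorTransp.Descend

/-!
# A maximal torus on a disjoint union
-/

universe u

open CategoryTheory CategoryTheory.Limits MonoidalCategory CartesianMonoidalCategory MonObj AlgebraicGeometry

set_option backward.isDefEq.respectTransparency false
set_option backward.isDefEq.respectTransparency.types false
set_option linter.style.haveILetI false
set_option synthInstance.maxHeartbeats 80000
set_option autoImplicit false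

namespace Groth.Agent.TorsionCent

open GrpSchLib GrpLimLib TorusQI

variable {κ : Type u}

/-- Factorisation through a family of monomorphisms over the pieces of an open immersion cover. -/
theorem eq_of_meet (S : κ → Scheme.{u}) {X : Scheme.{u}} {a b : κ} {f : X ⟶ S a} {g : X ⟶ S b}
    (h : f ≫ Sigma.ι S a = g ≫ Sigma.ι S b) (hab : a ≠ b) : IsEmpty X :=
  ⟨fun x => hab (by
    by_contra hne
    have h1 : (Sigma.ι S a) (f x) = (Sigma.ι S b) (g x) := by
      rw [← Scheme.Hom.comp_apply, h, Scheme.Hom.comp_apply]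
    rw [← sigmaMk_mk, ← sigmaMk_mk] at h1
    exact hne (congrArg Sigma.fst ((sigmaMk S).injective h1)))⟩

/-- Quasi-compact covering is checked piece by piece. -/
theorem hcov_sigmaMap {S S'' : κ → Scheme.{u}} (f : ∀ j, S'' j ⟶ S j)
    (hf : ∀ j (V : (S j).Opens), IsAffineOpen V →
      ∃ W : (S'' j).Opens, IsCompact (W : Set (S'' j)) ∧ (f j).base '' (W : Set (S'' j)) = (V : Set (S j)))
    (V : (∐ S).Opens) (hV : IsAffineOpen V) :
    ∃ W : (∐ S'').Opens, IsCompact (W : Set ↥(∐ S'')) ∧ (Limits.Sigma.map f).base '' (W : Set _) = (V : Set ↥(∐ S)) := by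
  classical
  have hx : ∀ x : (V : Set ↥(∐ S)), ∃ (j : κ) (A : (S j).Opens), IsAffineOpen A ∧
      x.1 ∈ (Sigma.ι S j) '' (A : Set (S j)) ∧ (Sigma.ι S j) '' (A : Set (S j)) ⊆ V := by
    rintro ⟨x, hx⟩
    obtain ⟨j, y, rfl⟩ := (sigmaOpenCover S).exists_eq x
    obtain ⟨A, hA, hyA, hAV⟩ := exists_isAffineOpen_mem_and_subset (show y ∈ (Sigma.ι S j) ⁻¹ᵁ V from hx)
    exact ⟨j, A, hA, ⟨y, hyA, rfl⟩, Set.image_subset_iff.mpr hAV⟩
  choose j A hA hxA hAV using hx
  obtain ⟨t, ht⟩ := hV.isCompact.elim_finite_subcover (fun x => (Sigma.ι S (j x)) '' (A x : Set (S (j x))))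
    (fun x => (Sigma.ι S (j x)).isOpenEmbedding.isOpenMap _ (A x).2)
    (fun x hx => Set.mem_iUnion.mpr ⟨⟨x, hx⟩, hxA ⟨x, hx⟩⟩)
  choose W hW hWA using fun x => hf (j x) (A x) (hA x)
  refine ⟨⟨⋃ x ∈ t, (Sigma.ι S'' (j x)) '' (W x : Set _), isOpen_biUnion fun x _ =>
    (Sigma.ι S'' (j x)).isOpenEmbedding.isOpenMap _ (W x).2⟩,
    t.isCompact_biUnion fun x _ => (hW x).image (Sigma.ι S'' (j x)).continuous, ?_⟩
  have key : ∀ x, (Limits.Sigma.map f).base '' ((Sigma.ι S'' (j x)) '' (W x : Set _)) =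
      (Sigma.ι S (j x)) '' (A x : Set (S (j x))) := fun x => by
    rw [← hWA x, Set.image_image, Set.image_image]
    refine Set.image_congr fun w _ => ?_
    rw [← Scheme.Hom.comp_apply, ← Scheme.Hom.comp_apply, Sigma.ι_map]
  show (Limits.Sigma.map f).base '' (⋃ x ∈ t, _) = _
  rw [Set.image_iUnion₂]
  simp only [key]
  refine Set.Subset.antisymm (Set.iUnion₂_subset fun x _ => hAV x) ht

variable (S : κ → Scheme.{u}) {G : Over (∐ S)} [GrpObj G] [Smooth G.hom] [IsSeparated G.hom] [QuasiCompact G.hom]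

/-- A maximal torus on every piece of a disjoint union gives one on the union. -/
theorem exists_maximalTorus_sigma
    (h : ∀ j, ∃ (T : Over (S j)) (_ : GrpObj T) (i : T ⟶ Red.bc (Sigma.ι S j) G), Red.IsMaximalTorus i) :
    ∃ (T : Over (∐ S)) (_ : GrpObj T) (i : T ⟶ G), Red.IsMaximalTorus i := by
  classical
  choose Tj iTj t ht using h
  haveI : ∀ j, Mono (t j) := fun j => (ht j).2.1
  haveI : ∀ j, IsMonHom (t j) := fun j => (ht j).1
  haveI : ∀ j, Mono (t j).left := fun j => Over.mono_left_of_mono _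
  let O : ∀ j, (Red.bc (Sigma.ι S j) G).left ⟶ G.left := fun j => pullback.fst G.hom (Sigma.ι S j)
  let P : ∀ {X : Scheme.{u}}, (X ⟶ G.left) → Prop := fun {X} c =>
    ∀ j, ∃ l : pullback c (O j) ⟶ (Tj j).left, l ≫ (t j).left = pullback.snd c (O j)
  have hcomp : ∀ {X X' : Scheme.{u}} {c : X ⟶ G.left} (l : X' ⟶ X), P c → P (l ≫ c) := by
    intro X X' c l hc j
    obtain ⟨m, hm⟩ := hc j
    refine ⟨pullback.lift (pullback.fst (l ≫ c) (O j) ≫ l) (pullback.snd _ _) (by
      rw [Category.assoc, pullback.condition]) ≫ m, ?_⟩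
    rw [Category.assoc, hm, pullback.lift_snd]
  -- the predicate on points over the base
  have hiff : ∀ {Y : Over (∐ S)} (a : Y ⟶ G), P a.left ↔
      ∀ j, ∃ l, l ≫ t j = (Over.pullback (Sigma.ι S j)).map a := by
    intro Y a
    refine forall_congr' fun j => ⟨fun ⟨m, hm⟩ => ?_, fun ⟨l, hl⟩ => ?_⟩
    · let u : (Red.bc (Sigma.ι S j) Y).left ⟶ pullback a.left (O j) :=
        pullback.lift (pullback.fst Y.hom (Sigma.ι S j)) ((Over.pullback (Sigma.ι S j)).map a).left
          (GrpLimLib.map_left_fst a).symm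
      have hu : (u ≫ m) ≫ (t j).left = ((Over.pullback (Sigma.ι S j)).map a).left := by
        rw [Category.assoc, hm, pullback.lift_snd]
      exact ⟨Over.homMk (u ≫ m) (by rw [← Over.w (t j), ← Category.assoc, hu]; exact Over.w _), Over.OverMorphism.ext hu⟩
    · let v : pullback a.left (O j) ⟶ (Red.bc (Sigma.ι S j) Y).left :=
        pullback.lift (pullback.fst _ _) (pullback.snd a.left (O j) ≫ pullback.snd G.hom (Sigma.ι S j)) (by
          rw [← Over.w a, pullback.condition_assoc, Category.assoc]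
          simp only [O, pullback.condition])
      refine ⟨v ≫ l.left, ?_⟩
      rw [Category.assoc, ← Over.comp_left, hl]
      refine pullback.hom_ext ?_ ?_
      · rw [Category.assoc, GrpLimLib.map_left_fst, pullback.lift_fst_assoc]
        exact pullback.condition
      · rw [Category.assoc]
        erw [Over.w ((Over.pullback (Sigma.ι S j)).map a)]
        exact pullback.lift_snd _ _ _
  have hloc : IsLocalSubgroup (G := G) (fun c => P c) :=
  { comp := hcomp
    of_openCover := fun {X c} 𝒰 hc j => by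
      refine exists_fac_of_openCover (t j).left (pullback.snd c (O j)) (𝒰.pullback₁ (pullback.fst c (O j))) fun k => ?_
      obtain ⟨m, hm⟩ := hc k j
      refine ⟨pullback.lift (pullback.snd (pullback.fst c (O j)) (𝒰.f k))
        (pullback.fst (pullback.fst c (O j)) (𝒰.f k) ≫ pullback.snd c (O j)) (by
          rw [← pullback.condition_assoc, Category.assoc, pullback.condition]) ≫ m, ?_⟩
      rw [Category.assoc, hm, pullback.lift_snd]
      rfl
    of_covers := fun {X X' c} p h1 h2 h3 hc j => by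
      haveI := h1; haveI := h2; haveI := h3
      obtain ⟨m, hm⟩ := hc j
      refine TorusQI.exists_fac_of_covers (t j).left (pullback.snd c (O j))
        ((FpqcDescLib.covers_of_isCovering (FpqcDescLib.isCovering_of_lfp p)).pullback (pullback.fst c (O j)) _ _
          (IsPullback.of_hasPullback (pullback.fst c (O j)) p))
        (pullback.lift (pullback.snd (pullback.fst c (O j)) p)
          (pullback.fst (pullback.fst c (O j)) p ≫ pullback.snd c (O j)) (by
          rw [← pullback.condition_assoc, Category.assoc, pullback.condition]) ≫ m) ?_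
      rw [Category.assoc, hm, pullback.lift_snd]
    one := fun Y => (hiff _).mpr fun j => ⟨1, by rw [Functor.map_one, MonObj.one_comp]⟩
    mul := fun {Y a b} ha hb => (hiff _).mpr fun j => by
      obtain ⟨l, hl⟩ := (hiff a).mp ha j
      obtain ⟨l', hl'⟩ := (hiff b).mp hb j
      exact ⟨l * l', by rw [Functor.map_mul, MonObj.mul_comp, hl, hl']⟩
    inv := fun {Y a} ha => (hiff _).mpr fun j => by
      obtain ⟨l, hl⟩ := (hiff a).mp ha j
      exact ⟨l⁻¹, by
        rw [GrpObj.inv_comp, hl]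
        refine inv_eq_of_mul_eq_one_right ?_
        rw [← Functor.map_mul, mul_inv_cancel, Functor.map_one]⟩ }
  have hchar : ∀ j (Y : Over (S j)) (y : Y ⟶ Red.bc (Sigma.ι S j) G),
      P (DSPtsLib.theta (Sigma.ι S j) y).left ↔ ∃ l, l ≫ t j = y := by
    intro j Y y
    constructor
    · intro hy
      obtain ⟨m, hm⟩ := hy j
      let e : Y.left ⟶ pullback (DSPtsLib.theta (Sigma.ι S j) y).left (O j) :=
        pullback.lift (𝟙 _) y.left (Category.id_comp _)
      have he : (e ≫ m) ≫ (t j).left = y.left := by rw [Category.assoc, hm, pullback.lift_snd]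
      exact ⟨Over.homMk (e ≫ m) (by rw [← Over.w (t j), ← Category.assoc, he]; exact Over.w y), Over.OverMorphism.ext he⟩
    · rintro ⟨l, rfl⟩ j'
      rcases eq_or_ne j j' with rfl | hne
      · refine ⟨pullback.fst _ _ ≫ l.left, ?_⟩
        haveI : Mono (O j) := inferInstanceAs (Mono (pullback.fst G.hom (Sigma.ι S j)))
        rw [← cancel_mono (O j), ← pullback.condition, Category.assoc, Category.assoc]
        rfl
      · haveI := eq_of_meet S (X := pullback (DSPtsLib.theta (Sigma.ι S j) (l ≫ t j)).left (O j'))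
          (f := pullback.fst _ _ ≫ (l ≫ t j).left ≫ pullback.snd G.hom _)
          (g := pullback.snd _ _ ≫ pullback.snd G.hom _) (by
            simp only [Category.assoc, ← pullback.condition]
            have e := congrArg (· ≫ G.hom) (pullback.condition (f := (DSPtsLib.theta (Sigma.ι S j) (l ≫ t j)).left) (g := O j'))
            simpa only [O, DSPtsLib.theta_left, Category.assoc] using e) hne
        exact ⟨(isInitialOfIsEmpty).to _, (isInitialOfIsEmpty).hom_ext _ _⟩
  haveI : ∀ j, IsAffineHom (Tj j).hom := fun j =>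
    (TransLib.multTypeFT_essFree (TorusQI.isMultTypeFT_of_isTorus (ht j).2.2.1)).1
  obtain ⟨T, iT, i, him, hmono, hall⟩ := MultTypeImage.exists_subgroup_of_local_mono (fun c => P c) hloc S
    (Sigma.ι S) (fun j => inferInstance) (fun x => (sigmaOpenCover S).exists_eq x) Tj inferInstance t inferInstance hchar
  haveI := him; haveI := hmono
  have hφ : ∀ j, ∃ φ : Red.bc (Sigma.ι S j) T ≅ Tj j, φ.hom ≫ t j = (Over.pullback (Sigma.ι S j)).map i := by
    intro j
    haveI : (Over.pullback (Sigma.ι S j)).IsRightAdjoint := (Over.mapPullbackAdj (Sigma.ι S j)).isRightAdjoint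
    obtain ⟨a, ha⟩ := (hchar j _ ((Over.pullback (Sigma.ι S j)).map i)).mp ((hall _ _).mpr
      ⟨DSPtsLib.theta (Sigma.ι S j) (𝟙 _), by rw [← HomUnitLocus.theta_comp_map, Category.id_comp]⟩)
    obtain ⟨l, hl⟩ := (hall _ _).mp ((hchar j (Tj j) (t j)).mpr ⟨𝟙 _, Category.id_comp _⟩)
    obtain ⟨b, hb⟩ := (DSPtsLib.theta_bijective (Sigma.ι S j)).2 l
    have hb' : b ≫ (Over.pullback (Sigma.ι S j)).map i = t j := (DSPtsLib.theta_bijective (Sigma.ι S j)).1 (by
      rw [HomUnitLocus.theta_comp_map, hb, hl])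
    exact ⟨⟨a, b, by rw [← cancel_mono ((Over.pullback (Sigma.ι S j)).map i), Category.assoc, hb', ha, Category.id_comp],
      by rw [← cancel_mono (t j), Category.assoc, ha, hb', Category.id_comp]⟩, ha⟩
  choose φ hφt using hφ
  have hφm : ∀ j, IsMonHom (φ j).hom := fun j => AGFLib.isMonHom_of_mul (φ j).hom fun X a b => by
    rw [← cancel_mono (t j), MonObj.mul_comp (a ≫ _), Category.assoc, Category.assoc, Category.assoc, hφt,
      MonObj.mul_comp a b]
  -- the union is a torus
  choose S'' f'' hff hfs hfc hfl using fun j => (ht j).2.2.1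
  have htor : Red.IsTorus T := by
    haveI : ∀ j, Flat (f'' j) := hff
    haveI : Flat (Limits.Sigma.map f'') := DescLib.prop_sigmaMap @Flat _ hff
    refine ⟨∐ S'', Limits.Sigma.map f'', inferInstance, ⟨fun x => ?_⟩, hcov_sigmaMap f'' hfc, fun z => ?_⟩
    · obtain ⟨j, y, rfl⟩ := (sigmaOpenCover S).exists_eq x
      obtain ⟨w, rfl⟩ := (hfs j).surj y
      refine ⟨Sigma.ι S'' j w, ?_⟩
      rw [← Scheme.Hom.comp_apply, Sigma.ι_map, Scheme.Hom.comp_apply]
      rfl
    · obtain ⟨j, y, rfl⟩ := (sigmaOpenCover S'').exists_eq z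
      obtain ⟨U, hyU, r, ⟨e₀⟩⟩ := hfl j y
      haveI := hφm j
      let w := U.ι ≫ Sigma.ι S'' j
      let v := w.isoOpensRange.inv
      refine ⟨w.opensRange, ⟨⟨y, hyU⟩, rfl⟩, r, ?_⟩
      obtain ⟨e₁⟩ := MultTypeBC.bc_bc v ((U.ι ≫ f'' j) ≫ Sigma.ι S j) T
      obtain ⟨e₂⟩ := MultTypeBC.bc_congr (show w.opensRange.ι ≫ Limits.Sigma.map f'' = v ≫ (U.ι ≫ f'' j) ≫ Sigma.ι S j by
        rw [← Scheme.Hom.isoOpensRange_inv_comp]
        simp only [v, w, Category.assoc, Sigma.ι_map]) T
      obtain ⟨e₃⟩ := MultTypeBC.bc_bc (U.ι ≫ f'' j) (Sigma.ι S j) T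
      obtain ⟨e₄⟩ := MultTypeBC.bc_iso (U.ι ≫ f'' j) (Grp.mkIso' (φ j))
      obtain ⟨e₅⟩ := MultTypeBC.bc_iso v (e₃.symm ≪≫ e₄ ≪≫ e₀)
      obtain ⟨e₆⟩ := MultTypeBC.bc_DS v (Fin r → ℤ)
      exact ⟨e₂ ≪≫ e₁.symm ≪≫ e₅ ≪≫ e₆⟩
  refine ⟨T, iT, i, (MaxTorusBC.isMaximalTorus_iff htor).mpr fun s => ?_⟩
  obtain ⟨j, y, rfl⟩ := (sigmaOpenCover S).exists_eq s
  haveI : (Over.pullback (Sigma.ι S j)).IsRightAdjoint := (Over.mapPullbackAdj (Sigma.ι S j)).isRightAdjoint
  haveI := hφm j
  have hm : Red.IsMaximalTorus ((Over.pullback (Sigma.ι S j)).map i) := by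
    obtain ⟨h1, h2, h3, h4⟩ := ht j
    refine ⟨inferInstance, inferInstance, SolvGrp.isTorus_bc _ htor, fun x U _ k _ _ f hU hf => ?_⟩
    haveI : (Over.pullback (Red.geomPt x)).IsRightAdjoint := (Over.mapPullbackAdj (Red.geomPt x)).isRightAdjoint
    let e := (Over.pullback (Red.geomPt x)).mapIso (φ j)
    haveI : IsIso (e.inv ≫ f) := h4 x U k (e.inv ≫ f) hU (by
      rw [Category.assoc, hf, Iso.inv_comp_eq]
      simp only [e, Functor.mapIso_hom, ← Functor.map_comp, hφt])
    haveI : IsIso e.inv := Iso.isIso_inv e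
    exact IsIso.of_isIso_comp_left e.inv f
  refine (MaxTorusBC.max_geom_iff i htor (Red.geomPt y ≫ Sigma.ι S j) _ ?_).1 ?_
  · rw [Scheme.Hom.comp_apply]
    congr 1
    show (Spec.map _ ≫ (S j).fromSpecResidueField y) _ = y
    rw [Scheme.Hom.comp_apply, Scheme.fromSpecResidueField_apply]
  · exact (MaxTorusBC.max_cmp_iff (rfl : Red.geomPt y ≫ Sigma.ι S j = _) i).1 (hm.2.2.2 y)

end Groth.Agent.TorsionCent
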