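import Groth.Agent.TorsionCent.Main
import Groth.Agent.TorsionCent.Sigma
import Groth.Agent.MultTypeImage.MaxTorus
import Groth.Agent.AGFLib.GeomBC

/-!
# An fpqc-local maximal torus exists étale locally
-/

universe u

open CategoryTheory CategoryTheory.Limits MonoidalCategory CartesianMonoidalCategory MonObj AlgebraicGeometry

set_option backward.isDefEq.respectTransparency false
set_option backward.isDefEq.respectTransparency.types false
set_option linter.style.haveILetI false
set_option synthInstance.maxHeartbeats 80000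
set_option autoImplicit false

namespace Groth.Agent.TorsionCent

open GrpSchLib GrpLimLib MaxTorCent

variable {S : Scheme.{u}}

theorem isMonHom_inv_of {A B : Over S} [GrpObj A] [GrpObj B] (e : A ≅ B) [IsMonHom e.hom] : IsMonHom e.inv :=
  AGFLib.isMonHom_of_mul _ fun X u v => by
    rw [← cancel_mono e.hom, MonObj.mul_comp (u ≫ _), Category.assoc, Category.assoc, Category.assoc, Iso.inv_hom_id,
      Category.comp_id, Category.comp_id, Category.comp_id]

set_option maxHeartbeats 800000 in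
/-- Near every point an fpqc-local maximal torus gives one on an étale neighbourhood. -/
theorem exists_etale_nhd {G : Over S} [GrpObj G] [Smooth G.hom] [IsSeparated G.hom] [QuasiCompact G.hom]
    (hG : SGA3x.HasMaxTorusFpqcLocally G) (s : S) :
    ∃ (S' : Scheme.{u}) (g : S' ⟶ S), Etale g ∧ s ∈ Set.range g ∧
      ∃ (T' : Over S') (_ : GrpObj T') (i' : T' ⟶ Red.bc g G), Red.IsMaximalTorus i' := by
  classical
  obtain ⟨S₁, f, hf, hfs, hfc, T₁, _, i₁, hi₁⟩ := hG
  haveI := hf
  obtain ⟨V, hV, hsV, -⟩ := exists_isAffineOpen_mem_and_subset (show s ∈ (⊤ : S.Opens) from trivial)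
  let res : Γ(S, V) →+* S.residueField s := (S.residue s).hom.comp (S.presheaf.germ V s hsV).hom
  obtain ⟨q, hq, hqs⟩ : ∃ q : ℕ, q.Prime ∧ (q : S.residueField s) ≠ 0 := by
    by_cases h2 : ((2 : ℕ) : S.residueField s) = 0
    · refine ⟨3, Nat.prime_three, fun h3 => one_ne_zero (α := S.residueField s) ?_⟩
      have h : ((3 : ℕ) : S.residueField s) = ((2 : ℕ) : S.residueField s) + 1 := by
        rw [← Nat.cast_one (R := S.residueField s), ← Nat.cast_add]
      rw [h3, h2, zero_add] at h
      exact h.symm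
    · exact ⟨2, Nat.prime_two, h2⟩
  let U := S.basicOpen (q : Γ(S, V))
  have hsU : s ∈ U := by
    rw [← Scheme.evaluation_ne_zero_iff_mem_basicOpen (x := s) (hx := hsV), map_natCast]
    exact hqs
  have hUa : IsAffineOpen U := hV.basicOpen _
  have hqU : IsUnit (q : Γ(S, U)) := by
    have h := AlgebraicGeometry.RingedSpace.isUnit_res_basicOpen S.toLocallyRingedSpace.toRingedSpace (q : Γ(S, V))
    rw [map_natCast] at h
    exact h
  obtain ⟨W, hW, hWU⟩ := hfc U hUa
  haveI : CompactSpace (W : Scheme.{u}) := isCompact_iff_compactSpace.mp hW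
  let 𝒰 := (W : Scheme.{u}).affineCover.finiteSubcover
  let R : Scheme.{u} := ∐ 𝒰.X
  haveI : Finite 𝒰.I₀ := inferInstance
  haveI : ∀ i, IsAffine (𝒰.X i) := fun i => (isAffine_Spec _)
  let ρ : R ⟶ (W : Scheme.{u}) := Sigma.desc 𝒰.f
  haveI : IsAffine R := inferInstance
  let A : Type u := Γ(S, U)
  let B : Type u := Γ(R, ⊤)
  let a : Spec (CommRingCat.of A) ⟶ S := hUa.fromSpec
  haveI : IsOpenImmersion a := inferInstanceAs (IsOpenImmersion hUa.fromSpec)
  let β : Spec (CommRingCat.of B) ⟶ S₁ := R.isoSpec.inv ≫ ρ ≫ W.ι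
  have ha : Set.range a = (U : Set S) := hUa.range_fromSpec
  have hβr : Set.range (β ≫ f) = (U : Set S) := by
    rw [← hWU]
    ext x
    constructor
    · rintro ⟨z, rfl⟩
      exact ⟨(β z : S₁), ((ρ (R.isoSpec.inv z))).2, rfl⟩
    · rintro ⟨w, hw, rfl⟩
      obtain ⟨i, y, hy⟩ := 𝒰.exists_eq ⟨w, hw⟩
      refine ⟨R.isoSpec.hom (Sigma.ι 𝒰.X i y), ?_⟩
      rw [Scheme.Hom.comp_apply]
      congr 1
      show β (R.isoSpec.hom (Sigma.ι 𝒰.X i y)) = w
      have e : Sigma.ι 𝒰.X i ≫ R.isoSpec.hom ≫ β = 𝒰.f i ≫ W.ι := by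
        show Sigma.ι 𝒰.X i ≫ R.isoSpec.hom ≫ R.isoSpec.inv ≫ ρ ≫ W.ι = _
        rw [Iso.hom_inv_id_assoc]
        exact Sigma.ι_desc_assoc _ _ _
      erw [← Scheme.Hom.comp_apply, ← Scheme.Hom.comp_apply]
      rw [e, Scheme.Hom.comp_apply, hy]
      rfl
  let π : Spec (CommRingCat.of B) ⟶ Spec (CommRingCat.of A) :=
    IsOpenImmersion.lift a (β ≫ f) (by rw [hβr, ha])
  have hπ : π ≫ a = β ≫ f := IsOpenImmersion.lift_fac _ _ _
  haveI : Flat ρ := IsZariskiLocalAtSource.sigmaDesc (P := @Flat) fun i => inferInstance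
  haveI : Flat π := by
    haveI : Flat (π ≫ a) := by rw [hπ]; infer_instance
    exact MorphismProperty.of_postcomp (W := @Flat) (W' := @IsOpenImmersion) π a inferInstance ‹Flat (π ≫ a)›
  haveI : Surjective π := ⟨fun x => by
    have hx : a x ∈ (U : Set S) := ha ▸ ⟨x, rfl⟩
    rw [← hβr, ← hπ] at hx
    obtain ⟨z, hz⟩ := hx
    exact ⟨z, a.isOpenEmbedding.injective (by rwa [Scheme.Hom.comp_apply] at hz)⟩⟩
  let G₀ := Red.bc a G
  haveI : Smooth G₀.hom := inferInstanceAs (Smooth (pullback.snd G.hom a))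
  haveI : IsSeparated G₀.hom := inferInstanceAs (IsSeparated (pullback.snd G.hom a))
  haveI : QuasiCompact G₀.hom := inferInstanceAs (QuasiCompact (pullback.snd G.hom a))
  haveI : Smooth (Red.bc f G).hom := inferInstanceAs (Smooth (pullback.snd G.hom f))
  haveI : IsSeparated (Red.bc f G).hom := inferInstanceAs (IsSeparated (pullback.snd G.hom f))
  haveI : QuasiCompact (Red.bc f G).hom := inferInstanceAs (QuasiCompact (pullback.snd G.hom f))
  haveI := GrpLimLib.isMonHom_cmp hπ G
  haveI := GrpLimLib.isMonHom_cmp (rfl : β ≫ f = β ≫ f) G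
  haveI := isMonHom_inv_of (cmp hπ G)
  have hmax : Red.IsMaximalTorus (((Over.pullback β).map i₁ ≫ (cmp (rfl : β ≫ f = β ≫ f) G).hom) ≫ (cmp hπ G).inv) :=
    isMaximalTorus_comp_iso (isMaximalTorus_comp_iso (MaxTorCent.isMaximalTorus_bc hi₁ β) _) _
  have hqA : IsUnit (q : Γ(Spec (CommRingCat.of A), ⊤)) := by
    rw [← map_natCast (Scheme.ΓSpecIso (CommRingCat.of A)).inv.hom]
    exact hqU.map _
  obtain ⟨x, hx⟩ : ∃ x, a x = s := by
    have : s ∈ Set.range a := by rw [ha]; exact hsU
    exact this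
  obtain ⟨S', g, hg, ⟨z, hz⟩, T', _, i', hi'⟩ := exists_etale_local π hmax q hq hqA x
  haveI := hg
  haveI := GrpLimLib.isMonHom_cmp (rfl : g ≫ a = g ≫ a) G
  refine ⟨S', g ≫ a, inferInstance, ⟨z, by rw [Scheme.Hom.comp_apply, hz, hx]⟩, T', inferInstance,
    i' ≫ (cmp (rfl : g ≫ a = g ≫ a) G).hom, isMaximalTorus_comp_iso hi' _⟩

/-- An fpqc-local maximal torus gives one after an étale surjective base change. -/
theorem etale_locally {G : Over S} [GrpObj G] [Smooth G.hom] [IsSeparated G.hom] [QuasiCompact G.hom]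
    (hG : SGA3x.HasMaxTorusFpqcLocally G) : SGA3x.HasMaxTorusEtaleLocally G := by
  choose S' g hg hs T iT i hi using exists_etale_nhd hG
  haveI : ∀ s, Etale (g s) := hg
  let F : (∐ S') ⟶ S := Sigma.desc g
  haveI : Etale F := IsZariskiLocalAtSource.sigmaDesc (P := @Etale) hg
  haveI : Surjective F := ⟨fun s => by
    obtain ⟨y, hy⟩ := hs s
    exact ⟨Sigma.ι S' s y, by rw [← Scheme.Hom.comp_apply, Sigma.ι_desc]; exact hy⟩⟩
  haveI : Smooth (Red.bc F G).hom := inferInstanceAs (Smooth (pullback.snd G.hom F))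
  haveI : IsSeparated (Red.bc F G).hom := inferInstanceAs (IsSeparated (pullback.snd G.hom F))
  haveI : QuasiCompact (Red.bc F G).hom := inferInstanceAs (QuasiCompact (pullback.snd G.hom F))
  obtain ⟨T₀, _, i₀, hi₀⟩ := exists_maximalTorus_sigma S' (G := Red.bc F G) fun j => by
    have e : Sigma.ι S' j ≫ F = g j := Sigma.ι_desc _ _
    haveI := GrpLimLib.isMonHom_cmp e G
    haveI := isMonHom_inv_of (cmp e G)
    exact ⟨T j, iT j, i j ≫ (cmp e G).inv, isMaximalTorus_comp_iso (hi j) _⟩
  exact ⟨∐ S', F, inferInstance, inferInstance, T₀, inferInstance, i₀, hi₀⟩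

/-- Surjectivity on geometric fibres is surjectivity. -/
theorem surjective_of_geomPt {G G' : Over S} (u : G ⟶ G')
    (hu : ∀ s : S, Surjective ((Over.pullback (Red.geomPt s)).map u).left) : Surjective u.left := by
  refine ⟨fun y => ?_⟩
  let s := G'.hom y
  haveI : Subsingleton ↥(Spec (CommRingCat.of (AlgebraicClosure (S.residueField s)))) :=
    inferInstanceAs (Subsingleton (PrimeSpectrum (AlgebraicClosure (S.residueField s))))
  obtain ⟨z, hz, -⟩ := Scheme.Pullback.exists_preimage_pullback (f := G'.hom) (g := Red.geomPt s) y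
    (IsLocalRing.closedPoint _) (by
      show s = _
      rw [Scheme.Hom.comp_apply]
      exact (Scheme.fromSpecResidueField_apply s _).symm)
  obtain ⟨w, hw⟩ := (hu s).surj z
  refine ⟨pullback.fst G.hom (Red.geomPt s) w, ?_⟩
  rw [← Scheme.Hom.comp_apply, ← GrpLimLib.map_left_fst, Scheme.Hom.comp_apply]
  erw [hw]
  exact hz

/-- The image of an fpqc-local maximal torus. -/
theorem fpqc_locally_image {G G' : Over S} [GrpObj G] [GrpObj G'] [Smooth G.hom] [IsSeparated G.hom]
    [QuasiCompact G.hom] [Smooth G'.hom] [IsSeparated G'.hom] [QuasiCompact G'.hom]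
    (hG : SGA3x.HasMaxTorusFpqcLocally G) (u : G ⟶ G') [IsMonHom u]
    (hu : ∀ s : S, Surjective ((Over.pullback (Red.geomPt s)).map u).left) :
    SGA3x.HasMaxTorusFpqcLocally G' := by
  obtain ⟨S', f, hf, hfs, hfc, T, _, i, hi⟩ := hG
  haveI : Smooth (Red.bc f G).hom := inferInstanceAs (Smooth (pullback.snd G.hom f))
  haveI : IsSeparated (Red.bc f G).hom := inferInstanceAs (IsSeparated (pullback.snd G.hom f))
  haveI : QuasiCompact (Red.bc f G).hom := inferInstanceAs (QuasiCompact (pullback.snd G.hom f))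
  haveI : Smooth (Red.bc f G').hom := inferInstanceAs (Smooth (pullback.snd G'.hom f))
  haveI : IsSeparated (Red.bc f G').hom := inferInstanceAs (IsSeparated (pullback.snd G'.hom f))
  haveI : QuasiCompact (Red.bc f G').hom := inferInstanceAs (QuasiCompact (pullback.snd G'.hom f))
  obtain ⟨T', _, i', v, hi', -⟩ := MultTypeImage.exists_maximalTorus_image ((Over.pullback f).map u)
    (fun s' => by
      haveI := surjective_of_geomPt u hu
      haveI : Surjective ((Over.pullback f).map u).left :=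
        MorphismProperty.of_isPullback (P := @Surjective) (HomSplitLocal.isPullback_map u f) ‹_›
      exact MorphismProperty.of_isPullback (P := @Surjective)
        (HomSplitLocal.isPullback_map ((Over.pullback f).map u) (Red.geomPt s')) ‹_›) hi
  exact ⟨S', f, hf, hfs, hfc, T', inferInstance, i', hi'⟩

end Groth.Agent.TorsionCent
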