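import Groth.Agent.TorsionCent.Chart
import Groth.Agent.TorsionCent.Central
import Groth.Agent.GrpSchLib.HomUnitLocus
import Groth.Agent.S0412

/-!
# An fpqc-local maximal torus exists étale locally: the local statement
-/

universe u

open CategoryTheory CategoryTheory.Limits MonoidalCategory CartesianMonoidalCategory MonObj AlgebraicGeometry

set_option backward.isDefEq.respectTransparency false
set_option backward.isDefEq.respectTransparency.types false
set_option linter.style.haveILetI false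
set_option synthInstance.maxHeartbeats 80000
set_option autoImplicit false

namespace Groth.Agent.TorsionCent

open GrpSchLib GrpLimLib MaxTorCent MaxTorTransp AGFLib SolvGrp

variable {S : Scheme.{u}}

/-- The points killed by powers, as an additive family, over any scheme. -/
theorem tuple_props {n r : ℕ} [NeZero n] {G : Over S} [GrpObj G] {Y : Over S} (x : (Fin r → ZMod n) → (Y ⟶ G))
    (h0 : x 0 = 1) (hadd : ∀ a b, x (a + b) = x a * x b) :
    (∀ a, x a ^ n = 1) ∧ ∀ a b, x a * x b = x b * x a := by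
  refine ⟨fun a => ?_, fun a b => by rw [← hadd, ← hadd, add_comm]⟩
  have h : ∀ k : ℕ, x (k • a) = x a ^ k := fun k => by
    induction k with
    | zero => rw [zero_smul, h0, pow_zero]
    | succ k ih => rw [succ_nsmul, hadd, ih, pow_succ]
  rw [← h, show n • a = 0 from funext fun k => by
    rw [Pi.smul_apply, nsmul_eq_mul, ZMod.natCast_self, zero_mul, Pi.zero_apply], h0]

/-- A smooth morphism is open on the underlying spaces. -/
theorem isOpen_range_smooth {X Y : Scheme.{u}} (f : X ⟶ Y) [Smooth f] : IsOpen (Set.range f) :=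
  f.isOpenMap.isOpen_range

set_option maxHeartbeats 1600000 in
/-- Near every point, a group with a maximal torus after an affine fpqc covering has one after an étale map. -/
theorem exists_etale_local {A B : Type u} [CommRing A] [CommRing B]
    (π : Spec (CommRingCat.of B) ⟶ Spec (CommRingCat.of A)) [Flat π] [Surjective π]
    {G : Over (Spec (CommRingCat.of A))} [GrpObj G] [Smooth G.hom] [IsSeparated G.hom] [QuasiCompact G.hom]
    {T : Over (Spec (CommRingCat.of B))} [GrpObj T] {i : T ⟶ Red.bc π G} (hi : Red.IsMaximalTorus i)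
    (q : ℕ) (hq : q.Prime) (hqu : IsUnit (q : Γ(Spec (CommRingCat.of A), ⊤))) (s : ↥(Spec (CommRingCat.of A))) :
    ∃ (S' : Scheme.{u}) (g : S' ⟶ Spec (CommRingCat.of A)), Etale g ∧ s ∈ Set.range g ∧
      ∃ (T' : Over S') (_ : GrpObj T') (i' : T' ⟶ Red.bc g G), Red.IsMaximalTorus i' := by
  classical
  haveI : QuasiCompact π := inferInstance
  haveI := hi.1; haveI := hi.2.1
  haveI : Smooth (Red.bc π G).hom := inferInstanceAs (Smooth (pullback.snd G.hom π))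
  haveI : IsSeparated (Red.bc π G).hom := inferInstanceAs (IsSeparated (pullback.snd G.hom π))
  haveI : QuasiCompact (Red.bc π G).hom := inferInstanceAs (QuasiCompact (pullback.snd G.hom π))
  have hT := hi.2.2.1
  have hTm := TorusQI.isMultTypeFT_of_isTorus hT
  obtain ⟨C, _, c, hc, hcc, hCs⟩ := MaxTorCent.exists_centralizer i hTm
  haveI := hcc; haveI := hCs; haveI := hc.1; haveI := hc.2.1
  obtain ⟨n, hn0, hnB, ⟨j, hj⟩, hfin, hgood⟩ := exists_good_locus i hT c hc q hq (by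
    rw [← map_natCast π.appTop.hom]; exact hqu.map _)
  haveI := hn0
  have hnA : IsUnit (n : Γ(Spec (CommRingCat.of A), ⊤)) := by rw [hj, Nat.cast_pow]; exact hqu.pow j
  -- the torsion of the torus at a point over `s`
  obtain ⟨s', hs'⟩ := π.surjective s
  let b := Red.geomPt s'
  let Ω := AlgebraicClosure ((Spec (CommRingCat.of B)).residueField s')
  haveI : Finite {τ : 𝟙_ (Over (Spec (CommRingCat.of Ω))) ⟶ Red.bc b T | τ ^ n = 1} := (hfin Ω b).to_subtype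
  obtain ⟨r, ⟨en⟩⟩ := Finite.exists_equiv_fin {τ : 𝟙_ (Over (Spec (CommRingCat.of Ω))) ⟶ Red.bc b T | τ ^ n = 1}
  obtain ⟨H, y, W, hHs, hy0, hyadd, huniv, hW, hWc⟩ := hgood r
  haveI := hHs
  obtain ⟨𝓧, x, h𝓧s, -, -, hx0, hxadd, hxuniv⟩ := exists_homScheme (G := G) hnA r
  haveI := h𝓧s
  -- the transporter from the tautological generators to the tautological tuple
  let Q : Over (Spec (CommRingCat.of B)) := Red.bc π 𝓧 ⊗ H
  let xa : (Fin r → ZMod n) → (Q ⟶ Red.bc π G) := fun a => fst _ H ≫ (Over.pullback π).map (x a)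
  let ya : (Fin r → ZMod n) → (Q ⟶ Red.bc π G) := fun a => snd _ H ≫ y a ≫ i
  have hxa := tuple_props xa (by simp only [xa, hx0, Functor.map_one, MonObj.comp_one])
    (fun a b => by simp only [xa, hxadd, Functor.map_mul, MonObj.comp_mul])
  have hya := tuple_props ya (by simp only [ya, hy0, MonObj.one_comp, MonObj.comp_one])
    (fun a b => by simp only [ya, hyadd, MonObj.mul_comp, MonObj.comp_mul])
  obtain ⟨M, p, gM, hps, hrel, hlift⟩ := exists_transp' hnB Q ya xa hya.1 hxa.1 hya.2 hxa.2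
  haveI := hps
  have hrel' : ∀ a, gM * ((p ≫ snd _ H) ≫ y a ≫ i) =
      ((p ≫ fst _ H) ≫ (Over.pullback π).map (x a)) * gM := fun a => by
    simpa only [ya, xa, Category.assoc] using hrel a
  have hlift' : ∀ (Y : Over (Spec (CommRingCat.of B))) (a : Y ⟶ Q) (h : Y ⟶ Red.bc π G),
      (∀ k, h * ((a ≫ snd _ H) ≫ y k ≫ i) = ((a ≫ fst _ H) ≫ (Over.pullback π).map (x k)) * h) →
        ∃ l : Y ⟶ M, l ≫ p = a ∧ l ≫ gM = h := fun Y a h hh =>
    hlift Y a h fun k => by simpa only [ya, xa, Category.assoc] using hh k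
  haveI : Smooth (fst (Red.bc π 𝓧) H).left := inferInstanceAs (Smooth (pullback.fst (Red.bc π 𝓧).hom H.hom))
  let V : M.left.Opens := (p ≫ snd _ H).left ⁻¹ᵁ W
  let px : (V : Scheme.{u}) ⟶ (Red.bc π 𝓧).left := V.ι ≫ (p ≫ fst _ H).left
  haveI : Smooth px := inferInstanceAs (Smooth (V.ι ≫ p.left ≫ (fst (Red.bc π 𝓧) H).left))
  let pr : (Red.bc π 𝓧).left ⟶ 𝓧.left := pullback.fst 𝓧.hom π
  haveI : Flat pr := inferInstanceAs (Flat (pullback.fst 𝓧.hom π))
  haveI : Surjective pr := inferInstanceAs (Surjective (pullback.fst 𝓧.hom π))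
  haveI : QuasiCompact pr := inferInstanceAs (QuasiCompact (pullback.fst 𝓧.hom π))
  have hsat : pr ⁻¹' (pr '' Set.range px) = Set.range px := by
    refine Set.Subset.antisymm ?_ (Set.subset_preimage_image _ _)
    rintro p₂ ⟨_, ⟨m, rfl⟩, hm⟩
    obtain ⟨m₂, hm₂, hm₂'⟩ := saturated π hi x y hyadd huniv W hW p gM hrel' hlift' (V.ι m) m.2 p₂ hm.symm
    exact ⟨⟨m₂, hm₂⟩, hm₂'⟩
  let E : 𝓧.left.Opens := ⟨pr '' Set.range px, GrpSchLib.HomUnitLocus.isOpen_of_preimage pr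
    (fun U hU => ⟨pr ⁻¹ᵁ U, pr.isCompact_preimage hU.isCompact, Set.image_preimage_eq _ pr.surjective⟩)
    (hsat.symm ▸ isOpen_range_smooth px)⟩
  -- the point over `s`
  obtain ⟨k, hk⟩ : ∃ k : Spec (CommRingCat.of Ω) ⟶ Spec (CommRingCat.of A), b ≫ π = k := ⟨_, rfl⟩
  haveI := GrpLimLib.isMonHom_cmp hk G
  haveI : (Over.pullback b).IsRightAdjoint := (Over.mapPullbackAdj b).isRightAdjoint
  letI : CommMonoid (𝟙_ (Over (Spec (CommRingCat.of Ω))) ⟶ Red.bc b T) :=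
    { (inferInstance : Monoid _) with
      mul_comm := fun u v => GrpSchLib.MultTypeComm.points_comm (TorusQI.isMultTypeFT_of_isTorus (SolvGrp.isTorus_bc b hT)) u v }
  let f : (Fin r → ZMod n) → (𝟙_ (Over (Spec (CommRingCat.of Ω))) ⟶ Red.bc b T) :=
    fun v => ∏ k, (en.symm k).1 ^ (v k).val
  have hfadd : ∀ u v, f (u + v) = f u * f v := fun u v => by
    rw [← Finset.prod_mul_distrib]
    refine Finset.prod_congr rfl fun k _ => ?_
    rw [← pow_add, Pi.add_apply, ZMod.val_add, ← pow_eq_pow_mod _ (en.symm k).2]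
  have hfs : ∀ τ : 𝟙_ (Over (Spec (CommRingCat.of Ω))) ⟶ Red.bc b T, τ ^ n = 1 → ∃ a, f a = τ := fun τ hτ => by
    refine ⟨Pi.single (en ⟨τ, hτ⟩) 1, ?_⟩
    show ∏ k, _ = τ
    rw [Finset.prod_eq_single (en ⟨τ, hτ⟩) (fun k _ hk => by rw [Pi.single_eq_of_ne hk, ZMod.val_zero, pow_zero])
      (fun h => absurd (Finset.mem_univ _) h), Pi.single_eq_same, Equiv.symm_apply_apply]
    rcases eq_or_ne n 1 with h1 | h1
    · have hτ1 : τ = 1 := by rw [h1, pow_one] at hτ; exact hτ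
      show τ ^ _ = τ
      rw [hτ1, one_pow]
    · haveI : Fact (1 < n) := ⟨by have := NeZero.pos n; omega⟩
      rw [ZMod.val_one, pow_one]
  obtain ⟨L, hL⟩ := huniv _ (fun a => DSPtsLib.theta b (f a)) fun u v => by rw [hfadd, DSPtsLib.theta_mul]
  obtain ⟨l, hl⟩ := (DSPtsLib.theta_bijective (g := b)).2 L
  have hLW : L.left (IsLocalRing.closedPoint Ω) ∈ W := by
    rw [← hl]
    exact (hW Ω b l).mpr fun τ hτ => by
      obtain ⟨a, ha⟩ := hfs τ hτ
      exact ⟨a, (DSPtsLib.theta_bijective b).1 (by rw [theta_map', hl, hL, ha])⟩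
  obtain ⟨K, hK⟩ := hxuniv ((Over.map k).obj (𝟙_ (Over (Spec (CommRingCat.of Ω)))))
    (fun a => DSPtsLib.theta k ((f a ≫ (Over.pullback b).map i) ≫ (cmp hk G).hom)) fun u v => by
      rw [hfadd, MonObj.mul_comp, MonObj.mul_comp, DSPtsLib.theta_mul]
  let e₂ : (Over.map b).obj (𝟙_ (Over (Spec (CommRingCat.of Ω)))) ⟶ Red.bc π 𝓧 :=
    Over.homMk (pullback.lift K.left b (((Over.w K).trans (Category.id_comp k)).trans hk.symm)) (by
      erw [pullback.lift_snd]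
      exact (Category.id_comp b).symm)
  obtain ⟨lM, hlM, -⟩ := hlift' _ (lift e₂ L) (DSPtsLib.theta b 1) fun a => by
    rw [lift_fst, lift_snd, ← Category.assoc L, hL]
    refine (rel_transfer hk i 1 (f a) _ _ ?_).mpr
      (show _ = ((f a ≫ (Over.pullback b).map i) ≫ (cmp hk G).hom) * _ by
        rw [MonObj.one_comp, _root_.one_mul, _root_.mul_one])
    rw [← hK, Over.comp_left, Over.comp_left, Category.assoc, GrpLimLib.map_left_fst]
    simp only [e₂, Over.homMk_left, pullback.lift_fst_assoc]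
  have hsE : s ∈ Set.range (E.ι ≫ 𝓧.hom) := by
    have hV : lM.left (IsLocalRing.closedPoint Ω) ∈ V := by
      show (p ≫ snd _ H).left (lM.left _) ∈ W
      rw [← Scheme.Hom.comp_apply, ← Over.comp_left, reassoc_of% hlM, lift_snd]
      exact hLW
    refine ⟨⟨_, _, ⟨⟨_, hV⟩, rfl⟩, rfl⟩, ?_⟩
    show 𝓧.hom (pr ((p ≫ fst _ H).left (lM.left (IsLocalRing.closedPoint Ω)))) = s
    rw [← Scheme.Hom.comp_apply lM.left, ← Over.comp_left, reassoc_of% hlM, lift_fst,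
      ← Scheme.Hom.comp_apply pr 𝓧.hom, pullback.condition, Scheme.Hom.comp_apply,
      ← Scheme.Hom.comp_apply e₂.left]
    simp only [e₂, Over.homMk_left, pullback.lift_snd]
    show π ((Spec.map _ ≫ (Spec (CommRingCat.of B)).fromSpecResidueField s') _) = s
    rw [Scheme.Hom.comp_apply (Spec.map _), Scheme.fromSpecResidueField_apply, hs']
  obtain ⟨S', g, s₀, hg, hgs, h, hh⟩ := Groth.Agent.S0412.result (E.ι ≫ 𝓧.hom) s hsE
  haveI := hg
  refine ⟨S', g, hg, ⟨s₀, hgs⟩, ?_⟩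
  -- the centralizer of the tuple on the étale neighbourhood
  haveI : Smooth (Red.bc g G).hom := inferInstanceAs (Smooth (pullback.snd G.hom g))
  haveI : IsSeparated (Red.bc g G).hom := inferInstanceAs (IsSeparated (pullback.snd G.hom g))
  haveI : QuasiCompact (Red.bc g G).hom := inferInstanceAs (QuasiCompact (pullback.snd G.hom g))
  let lx : (Over.map g).obj (𝟙_ (Over S')) ⟶ 𝓧 := Over.homMk (h ≫ E.ι) (by
    rw [Category.assoc, hh]
    exact (Category.id_comp g).symm)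
  choose xg hxg using fun a => (DSPtsLib.theta_bijective (g := g) (Y := 𝟙_ (Over S')) (H := G)).2 (lx ≫ x a)
  have hxgp := tuple_props xg ((DSPtsLib.theta_bijective g).1 (by rw [hxg, hx0, MonObj.comp_one, HomUnitLocus.theta_one]))
    (fun u v => (DSPtsLib.theta_bijective g).1 (by rw [DSPtsLib.theta_mul, hxg, hxg, hxg, hxadd, MonObj.comp_mul]))
  have hnS : IsUnit (n : Γ(S', ⊤)) := by rw [← map_natCast g.appTop.hom]; exact hnA.map _
  obtain ⟨Z, _, jz, hjm, hjc, hZs, hZ⟩ := exists_cent hnS xg hxgp.1 hxgp.2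
  haveI := hjm; haveI := hjc; haveI := hZs
  -- the covering over which the tuple is conjugate to generators
  let S₃ := pullback (h ≫ E.ι) pr
  let a₃ : S₃ ⟶ S' := pullback.fst _ _
  let c₃ : S₃ ⟶ (Red.bc π 𝓧).left := pullback.snd _ _
  haveI : Flat a₃ := inferInstanceAs (Flat (pullback.fst _ _))
  haveI : Surjective a₃ := inferInstanceAs (Surjective (pullback.fst _ _))
  haveI : QuasiCompact a₃ := inferInstanceAs (QuasiCompact (pullback.fst _ _))
  let S₄ := pullback c₃ px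
  let a₄ : S₄ ⟶ S₃ := pullback.fst _ _
  haveI : Smooth a₄ := inferInstanceAs (Smooth (pullback.fst c₃ px))
  haveI : Surjective a₄ := ⟨fun z => by
    have hz : c₃ z ∈ Set.range px := by
      rw [← hsat]
      show pr (c₃ z) ∈ pr '' Set.range px
      rw [← Scheme.Hom.comp_apply, ← pullback.condition, Scheme.Hom.comp_apply, Scheme.Hom.comp_apply]
      exact (h (a₃ z)).2
    obtain ⟨m, hm⟩ := hz
    obtain ⟨w, hw, -⟩ := Scheme.Pullback.exists_preimage_pullback (f := c₃) (g := px) z m hm.symm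
    exact ⟨w, hw⟩⟩
  let ψ : S₄ ⟶ S' := a₄ ≫ a₃
  have hψ : FpqcDescLib.IsCovering ψ :=
    (FpqcDescLib.isCovering_of_lfp a₄).comp (FpqcDescLib.isCovering_of_quasiCompact a₃)
  let e₄ : S₄ ⟶ M.left := pullback.snd c₃ px ≫ V.ι
  let b₄ : S₄ ⟶ Spec (CommRingCat.of B) := e₄ ≫ M.hom
  obtain ⟨k₄, hk₄'⟩ : ∃ k₄ : S₄ ⟶ Spec (CommRingCat.of A), ψ ≫ g = k₄ := ⟨_, rfl⟩
  have he₄ : e₄ ≫ (p ≫ fst _ H).left ≫ pr = ψ ≫ h ≫ E.ι := by
    have e1 := congrArg (fun t => t ≫ pr) (pullback.condition (f := c₃) (g := px))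
    have e2 := congrArg (fun t => a₄ ≫ t) (pullback.condition (f := h ≫ E.ι) (g := pr))
    simp only [px, e₄, ψ, a₄, a₃, c₃, Category.assoc] at e1 e2 ⊢
    rw [← e1, ← e2]
  have hk₄ : b₄ ≫ π = k₄ := by
    rw [← hk₄']
    simp only [b₄, ← Over.w (p ≫ fst (Red.bc π 𝓧) H), Category.assoc]
    rw [show (Red.bc π 𝓧).hom ≫ π = pr ≫ 𝓧.hom from pullback.condition.symm, reassoc_of% he₄, hh]
  haveI := GrpLimLib.isMonHom_cmp hk₄ G
  haveI := GrpLimLib.isMonHom_cmp hk₄' G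
  haveI : IsMonHom (cmp hk₄' G).inv := AGFLib.isMonHom_of_mul _ fun X u v => by
    rw [← cancel_mono (cmp hk₄' G).hom, MonObj.mul_comp (u ≫ _), Category.assoc, Category.assoc,
      Category.assoc, Iso.inv_hom_id, Category.comp_id, Category.comp_id, Category.comp_id]
  let E₄ : (Over.map b₄).obj (𝟙_ (Over S₄)) ⟶ M := Over.homMk e₄ (Category.id_comp b₄).symm
  obtain ⟨g₄, hg₄⟩ := (DSPtsLib.theta_bijective (g := b₄)).2 (E₄ ≫ gM)
  choose t₄ ht₄ using fun a => (DSPtsLib.theta_bijective (g := b₄) (Y := 𝟙_ (Over S₄)) (H := T)).2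
    (E₄ ≫ (p ≫ snd _ H) ≫ y a)
  choose X₄ hX₄ using fun a => exists_pt (X := G) k₄ (ψ ≫ (DSPtsLib.theta g (xg a)).left) (by
    rw [Category.assoc, ← hk₄']
    congr 1
    exact (Over.w (DSPtsLib.theta g (xg a))).trans (Category.id_comp g))
  choose x₄ hx₄ using fun a => exists_pt (X := Red.bc g G) ψ (ψ ≫ (xg a).left) (by
    rw [Category.assoc]
    erw [Over.w (xg a)]
    exact Category.comp_id ψ)
  have hx₄c : ∀ a, x₄ a ≫ (cmp hk₄' G).hom = X₄ a := fun a => theta_left_ext k₄ (by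
    rw [theta_left_cmp, hx₄, hX₄, DSPtsLib.theta_left, Category.assoc])
  have hrel₄ : ∀ a, (g₄ ≫ (cmp hk₄ G).hom) * ((t₄ a ≫ (Over.pullback b₄).map i) ≫ (cmp hk₄ G).hom) =
      X₄ a * (g₄ ≫ (cmp hk₄ G).hom) := fun a => by
    refine (rel_transfer hk₄ i g₄ (t₄ a) (E₄ ≫ (p ≫ fst _ H) ≫ (Over.pullback π).map (x a)) (X₄ a) ?_).mp ?_
    · rw [hX₄, hxg]
      simp only [E₄, lx, Over.comp_left, Over.homMk_left, Category.assoc, GrpLimLib.map_left_fst]
      simp only [Over.comp_left, Category.assoc] at he₄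
      rw [reassoc_of% he₄]
    · rw [hg₄, ht₄]
      have h' := congrArg (E₄ ≫ ·) (hrel' a)
      simpa only [MonObj.comp_mul, Category.assoc] using h'
  let Gk := Red.bc k₄ G
  haveI : Smooth (Red.bc ψ (Red.bc g G)).hom := inferInstanceAs (Smooth (pullback.snd (Red.bc g G).hom ψ))
  let g₁ : 𝟙_ (Over S₄) ⟶ Gk := g₄ ≫ (cmp hk₄ G).hom
  let ι₄ : Red.bc b₄ T ⟶ Gk := (Over.pullback b₄).map i ≫ (cmp hk₄ G).hom
  haveI : Smooth Gk.hom := inferInstanceAs (Smooth (pullback.snd G.hom k₄))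
  haveI : IsSeparated Gk.hom := inferInstanceAs (IsSeparated (pullback.snd G.hom k₄))
  haveI : QuasiCompact Gk.hom := inferInstanceAs (QuasiCompact (pullback.snd G.hom k₄))
  have hι₄ : Red.IsMaximalTorus ι₄ := isMaximalTorus_comp_iso (MaxTorCent.isMaximalTorus_bc hi b₄) _
  have hmax : Red.IsMaximalTorus ((ι₄ ≫ conjEnd g₁) ≫ (cmp hk₄' G).inv) :=
    isMaximalTorus_comp_iso (isMaximalTorus_comp_iso hι₄ (conjEnd g₁)) _
  haveI : (Over.pullback ψ).IsRightAdjoint := (Over.mapPullbackAdj ψ).isRightAdjoint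
  haveI := hι₄.1
  have hT₄ := TorusQI.isMultTypeFT_of_isTorus hι₄.2.2.1
  -- the criterion for factoring through the base change of the centralizer
  have hZ₄ : ∀ (Y : Over S₄) (u : Y ⟶ Gk), (∃ z, (z ≫ (Over.pullback ψ).map jz) ≫ (cmp hk₄' G).hom = u) ↔
      ∀ a, u * (toUnit Y ≫ X₄ a) = (toUnit Y ≫ X₄ a) * u := by
    intro Y u
    obtain ⟨u', rfl⟩ : ∃ u', u' ≫ (cmp hk₄' G).hom = u :=
      ⟨u ≫ (cmp hk₄' G).inv, by rw [Category.assoc, Iso.inv_hom_id, Category.comp_id]⟩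
    simp only [cancel_mono, ← hx₄c, ← Category.assoc, ← MonObj.mul_comp]
    have e : ∀ a, DSPtsLib.theta ψ (toUnit Y ≫ x₄ a) = toUnit _ ≫ xg a := fun a => by
      rw [DSPtsLib.theta_comp]
      refine Over.OverMorphism.ext ?_
      rw [Over.comp_left, Over.comp_left, hx₄, ← Category.assoc]
      congr 1
    have key : (∃ z, z ≫ jz = DSPtsLib.theta ψ u') ↔
        ∀ a, u' * (toUnit Y ≫ x₄ a) = (toUnit Y ≫ x₄ a) * u' := by
      rw [hZ]
      refine forall_congr' fun a => ?_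
      rw [← e, ← DSPtsLib.theta_mul, ← DSPtsLib.theta_mul, (DSPtsLib.theta_bijective ψ).1.eq_iff]
    refine Iff.trans ⟨fun ⟨z, hz⟩ => ⟨DSPtsLib.theta ψ z, by rw [← hz, theta_map']⟩, fun ⟨z, hz⟩ => ?_⟩ key
    obtain ⟨z', hz'⟩ := (DSPtsLib.theta_bijective (g := ψ) (Y := Y) (H := Z)).2 z
    exact ⟨z', (DSPtsLib.theta_bijective ψ).1 (by rw [theta_map', hz', hz])⟩
  obtain ⟨t', ht'⟩ := (hZ₄ _ (ι₄ ≫ conjEnd g₁)).mpr fun a => by
    rw [comp_conjEnd]
    have hc' : ι₄ * (toUnit _ ≫ t₄ a ≫ ι₄) = (toUnit _ ≫ t₄ a ≫ ι₄) * ι₄ := by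
      have h' := congrArg (· ≫ ι₄) (GrpSchLib.MultTypeComm.points_comm hT₄ (𝟙 _) (toUnit (Red.bc b₄ T) ≫ t₄ a))
      simpa only [MonObj.mul_comp, Category.id_comp, Category.assoc] using h'
    have hr : (toUnit (Red.bc b₄ T) ≫ X₄ a) =
        (toUnit (Red.bc b₄ T) ≫ g₁) * (toUnit _ ≫ t₄ a ≫ ι₄) * (toUnit (Red.bc b₄ T) ≫ g₁)⁻¹ := by
      rw [eq_mul_inv_iff_mul_eq, ← MonObj.comp_mul, ← MonObj.comp_mul]
      congr 1
      simpa only [ι₄, g₁, Category.assoc] using (hrel₄ a).symm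
    rw [hr]
    generalize toUnit (Red.bc b₄ T) ≫ g₁ = G₁
    generalize toUnit (Red.bc b₄ T) ≫ t₄ a ≫ ι₄ = U at hc' ⊢
    calc G₁ * ι₄ * G₁⁻¹ * (G₁ * U * G₁⁻¹) = G₁ * (ι₄ * U) * G₁⁻¹ := by group
      _ = G₁ * (U * ι₄) * G₁⁻¹ := by rw [hc']
      _ = _ := by group
  refine exists_maximalTorus_of_central jz ψ hψ t' ?_ fun {Y} u v => ?_
  · rwa [show t' ≫ (Over.pullback ψ).map jz = (ι₄ ≫ conjEnd g₁) ≫ (cmp hk₄' G).inv by
      rw [← ht', Category.assoc, Iso.hom_inv_id, Category.comp_id]]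
  -- centrality
  haveI : Mono jz := haveI : Mono jz.left := inferInstance; Over.mono_of_mono_left _
  rw [← cancel_mono ((Over.pullback ψ).map jz), ← cancel_mono (cmp hk₄' G).hom]
  simp only [MonObj.mul_comp, Category.assoc] at ht' ⊢
  rw [ht', ← Category.assoc v ι₄, comp_conjEnd]
  obtain ⟨U, hU⟩ : ∃ U, U = u ≫ (Over.pullback ψ).map jz ≫ (cmp hk₄' G).hom := ⟨_, rfl⟩
  rw [← hU]
  have hUc := (hZ₄ Y U).mp ⟨u, by rw [hU, Category.assoc]⟩
  obtain ⟨G₁, hG₁⟩ : ∃ G₁, G₁ = toUnit Y ≫ g₁ := ⟨_, rfl⟩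
  rw [← hG₁]
  obtain ⟨U₂, hU₂⟩ : ∃ U₂, U₂ ≫ (cmp hk₄ G).hom = G₁⁻¹ * U * G₁ :=
    ⟨(G₁⁻¹ * U * G₁) ≫ (cmp hk₄ G).inv, by rw [Category.assoc, Iso.inv_hom_id, Category.comp_id]⟩
  let hY : (Over.map b₄).obj Y ⟶ H := (Over.map b₄).map (toUnit Y) ≫ E₄ ≫ p ≫ snd _ H
  obtain ⟨w, hw⟩ := hWc ((Over.map b₄).obj Y) hY (by
    rintro _ ⟨z, rfl⟩
    simp only [hY, Over.comp_left, Category.assoc, E₄, Over.homMk_left, e₄, Scheme.Hom.comp_apply]
    exact (pullback.snd c₃ px ((((Over.map b₄).map (toUnit Y)).left) z)).2) (DSPtsLib.theta b₄ U₂) fun a => by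
    rw [show hY ≫ y a ≫ i = DSPtsLib.theta b₄ ((toUnit Y ≫ t₄ a) ≫ (Over.pullback b₄).map i) by
      rw [theta_map', DSPtsLib.theta_comp, ht₄]; simp only [hY, Category.assoc]]
    rw [← DSPtsLib.theta_mul, ← DSPtsLib.theta_mul, (DSPtsLib.theta_bijective b₄).1.eq_iff,
      ← cancel_mono (cmp hk₄ G).hom, MonObj.mul_comp, MonObj.mul_comp, hU₂]
    have hr : (toUnit Y ≫ X₄ a) = G₁ * (((toUnit Y ≫ t₄ a) ≫ (Over.pullback b₄).map i) ≫ (cmp hk₄ G).hom) * G₁⁻¹ := by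
      rw [eq_mul_inv_iff_mul_eq, hG₁]
      simp only [g₁, Category.assoc, ← MonObj.comp_mul]
      congr 1
      simpa only [Category.assoc] using (hrel₄ a).symm
    have hx' := hUc a
    rw [hr] at hx'
    generalize ((toUnit Y ≫ t₄ a) ≫ (Over.pullback b₄).map i) ≫ (cmp hk₄ G).hom = V₁ at hx' ⊢
    calc G₁⁻¹ * U * G₁ * V₁ = G₁⁻¹ * (U * (G₁ * V₁ * G₁⁻¹)) * G₁ := by group
      _ = G₁⁻¹ * (G₁ * V₁ * G₁⁻¹ * U) * G₁ := by rw [hx']
      _ = _ := by group
  have hcm : U₂ * (v ≫ (Over.pullback b₄).map i) = (v ≫ (Over.pullback b₄).map i) * U₂ := by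
    refine (DSPtsLib.theta_bijective b₄).1 ?_
    rw [DSPtsLib.theta_mul, DSPtsLib.theta_mul, theta_map']
    have h' := (hc.2.2 _ _).mp ⟨w, hw⟩ _ (𝟙 _) (DSPtsLib.theta b₄ v)
    rwa [Category.id_comp] at h'
  have hcm' := congrArg (· ≫ (cmp hk₄ G).hom) hcm
  simp only [MonObj.mul_comp, hU₂, ι₄, Category.assoc] at hcm' ⊢
  generalize v ≫ (Over.pullback b₄).map i ≫ (cmp hk₄ G).hom = V₁ at hcm' ⊢
  calc U * (G₁ * V₁ * G₁⁻¹) = G₁ * (G₁⁻¹ * U * G₁ * V₁) * G₁⁻¹ := by group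
    _ = G₁ * (V₁ * (G₁⁻¹ * U * G₁)) * G₁⁻¹ := by rw [hcm']
    _ = _ := by group

end Groth.Agent.TorsionCent
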