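import Groth.Agent.TorsionCent.Fixed
import Groth.Agent.GrpSchLib.MonoSubgroup

/-!
# Torsion points and transporters of tuples of torsion points in a smooth group
-/

universe u

open CategoryTheory CategoryTheory.Limits MonoidalCategory CartesianMonoidalCategory MonObj AlgebraicGeometry

set_option backward.isDefEq.respectTransparency false
set_option backward.isDefEq.respectTransparency.types false
set_option linter.style.haveILetI false
set_option autoImplicit false

namespace Groth.Agent.TorsionCent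

variable {S : Scheme.{u}} {G : Over S} [GrpObj G]

theorem comp_npow' {Y Y' : Over S} (h : Y' ⟶ Y) (g : Y ⟶ G) (m : ℕ) : h ≫ g ^ m = (h ≫ g) ^ m := by
  induction m with
  | zero => rw [pow_zero, pow_zero, MonObj.comp_one]
  | succ m ih => rw [pow_succ, pow_succ, MonObj.comp_mul, ih]

/-- Finite powers of a smooth separated scheme. -/
theorem exists_prod [Smooth G.hom] [IsSeparated G.hom] [QuasiCompact G.hom] (k : ℕ) :
    ∃ (P : Over S) (pr : Fin k → (P ⟶ G)), Smooth P.hom ∧ IsSeparated P.hom ∧ QuasiCompact P.hom ∧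
      (∀ (Y : Over S) (f : Fin k → (Y ⟶ G)), ∃ l : Y ⟶ P, ∀ i, l ≫ pr i = f i) ∧
      ∀ (Y : Over S) (a b : Y ⟶ P), (∀ i, a ≫ pr i = b ≫ pr i) → a = b := by
  induction k with
  | zero => exact ⟨𝟙_ (Over S), fun i => i.elim0, inferInstanceAs (Smooth (𝟙 S)), inferInstanceAs (IsSeparated (𝟙 S)), inferInstanceAs (QuasiCompact (𝟙 S)),
      fun Y _ => ⟨toUnit Y, fun i => i.elim0⟩, fun Y a b _ => toUnit_unique a b⟩
  | succ k ih =>
    obtain ⟨P, pr, hs, hsep, hPq, hl, hext⟩ := ih
    haveI := hs; haveI := hsep; haveI := hPq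
    refine ⟨G ⊗ P, Fin.cases (fst G P) (fun i => snd G P ≫ pr i),
      inferInstanceAs (Smooth (pullback.fst G.hom P.hom ≫ G.hom)),
      inferInstanceAs (IsSeparated (pullback.fst G.hom P.hom ≫ G.hom)),
      inferInstanceAs (QuasiCompact (pullback.fst G.hom P.hom ≫ G.hom)), fun Y f => ?_, fun Y a b h => ?_⟩
    · obtain ⟨l, hl'⟩ := hl Y fun i => f i.succ
      exact ⟨lift (f 0) l, fun i => Fin.cases (by simp) (fun j => by simp [hl']) i⟩
    · apply CartesianMonoidalCategory.hom_ext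
      · simpa using h 0
      · exact hext _ _ _ fun i => by simpa using h i.succ

/-- A monomorphism into `G` whose points are a subgroup carries a group structure. -/
theorem exists_grp {M : Over S} (j : M ⟶ G) [Mono j] (P : ∀ {Y : Over S}, (Y ⟶ G) → Prop)
    (hP : ∀ (Y : Over S) (g : Y ⟶ G), (∃ z, z ≫ j = g) ↔ P g)
    (h1 : ∀ Y : Over S, P (1 : Y ⟶ G)) (hmul : ∀ {Y : Over S} {a b : Y ⟶ G}, P a → P b → P (a * b))
    (hinv : ∀ {Y : Over S} {a : Y ⟶ G}, P a → P a⁻¹) :
    ∃ _ : GrpObj M, IsMonHom j := by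
  have hj : ∀ {Y : Over S} (z : Y ⟶ M), P (z ≫ j) := fun {Y} z => (hP Y _).mp ⟨z, rfl⟩
  obtain ⟨e, he⟩ := (hP _ η[G]).mpr (by
    rw [show η[G] = (1 : 𝟙_ (Over S) ⟶ G) from (by rw [Hom.one_def, toUnit_unique (toUnit _) (𝟙 _), Category.id_comp])]
    exact h1 _)
  obtain ⟨m, hm⟩ := (hP _ _).mpr (hmul (hj (fst M M)) (hj (snd M M)))
  obtain ⟨v, hv⟩ := (hP _ j⁻¹).mpr (hinv ((hP _ j).mp ⟨𝟙 _, Category.id_comp j⟩))
  exact GrpSchLib.exists_grpObj_of_mono j e he m hm v hv

variable {n : ℕ} [NeZero n]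

/-- The scheme of homomorphisms from `(ℤ/n)^r` to a smooth separated group is smooth when `n` is invertible. -/
theorem exists_homScheme (hn : IsUnit (n : Γ(S, ⊤))) [Smooth G.hom] [IsSeparated G.hom] [QuasiCompact G.hom] (r : ℕ) :
    ∃ (H : Over S) (x : (Fin r → ZMod n) → (H ⟶ G)), Smooth H.hom ∧ IsSeparated H.hom ∧ QuasiCompact H.hom ∧
      x 0 = 1 ∧ (∀ a b, x (a + b) = x a * x b) ∧
      ∀ (Y : Over S) (f : (Fin r → ZMod n) → (Y ⟶ G)), (∀ a b, f (a + b) = f a * f b) →
        ∃ l : Y ⟶ H, ∀ a, l ≫ x a = f a := by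
  classical
  let A := Fin r → ZMod n
  let κ := {i : A // i ≠ 0}
  let eκ : κ ≃ Fin (Fintype.card κ) := Fintype.equivFin κ
  obtain ⟨P, pr, hs, hsep, hPq, hl, hext⟩ := exists_prod (G := G) (Fintype.card κ)
  haveI := hs; haveI := hsep; haveI := hPq
  let F : A → (P ⟶ G) := fun i => if h : i = 0 then 1 else pr (eκ ⟨i, h⟩)
  have hF0 : F 0 = 1 := by simp [F]
  have hlift : ∀ (Y : Over S) (f : A → (Y ⟶ G)), f 0 = 1 → ∃ l : Y ⟶ P, ∀ i, l ≫ F i = f i := by
    intro Y f hf
    obtain ⟨l, hl'⟩ := hl Y fun i => f (eκ.symm i).1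
    refine ⟨l, fun i => ?_⟩
    by_cases h : i = 0
    · subst h; rw [hF0, MonObj.comp_one, hf]
    · simp [F, h, hl']
  have hext' : ∀ {Y : Over S} (a b : Y ⟶ P), (∀ i, a ≫ F i = b ≫ F i) → a = b := fun {Y} a b h => by
    refine hext _ _ _ fun i => ?_
    obtain ⟨⟨j, hj⟩, rfl⟩ := eκ.surjective i
    simpa [F, hj] using h j
  choose T hT using fun a : A => hlift P (fun i => F (i + a) * (F a)⁻¹) (by rw [zero_add, mul_inv_cancel])
  have hT0 : T 0 = 𝟙 P :=
    hext' _ _ fun i => by rw [hT, add_zero, hF0, inv_one, _root_.mul_one, Category.id_comp]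
  have hTadd : ∀ a b, T (a + b) = T a ≫ T b := fun a b => hext' _ _ fun i => by
    rw [Category.assoc, hT b, hT, MonObj.comp_mul, GrpObj.comp_inv, hT a, hT a]
    rw [show i + (a + b) = i + b + a by abel, show b + a = a + b from add_comm b a]
    group
  have hTc : ∀ a b, T a ≫ T b = T b ≫ T a := fun a b => by rw [← hTadd, ← hTadd, add_comm]
  obtain ⟨Z, f, hf, hZs, hZ⟩ := exists_fixed_family (X := P) hn (fun j c => T (Pi.single j c))
    (fun j => by rw [Pi.single_zero]; exact hT0) (fun j a b => by rw [Pi.single_add, hTadd])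
    (fun k l a b => hTc _ _)
  haveI := hf; haveI := hZs
  have hfix : ∀ {Y : Over S} (x : Y ⟶ P),
      (∃ y, y ≫ f = x) ↔ ∀ a i, x ≫ F (i + a) = (x ≫ F i) * (x ≫ F a) := fun {Y} x => by
    rw [hZ]
    have hiff : ∀ a, x ≫ T a = x ↔ ∀ i, x ≫ F (i + a) = (x ≫ F i) * (x ≫ F a) := fun a => by
      constructor
      · intro h i
        have := congrArg (· ≫ F i) h
        simp only [Category.assoc, hT, MonObj.comp_mul, GrpObj.comp_inv] at this
        rwa [mul_inv_eq_iff_eq_mul] at this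
      · intro h
        refine hext' _ _ fun i => ?_
        rw [Category.assoc, hT, MonObj.comp_mul, GrpObj.comp_inv, h, mul_inv_cancel_right]
    constructor
    · intro h a
      refine (hiff a).mp ?_
      rw [← Finset.univ_sum_single a]
      refine Finset.sum_induction _ (fun c => x ≫ T c = x) (fun c d hc hd => ?_) ?_ fun j _ => h j (a j)
      · show x ≫ T (c + d) = x
        rw [hTadd, ← Category.assoc, hc, hd]
      · show x ≫ T 0 = x
        rw [hT0, Category.comp_id]
    · intro h k i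
      exact (hiff _).mpr (h _)
  refine ⟨Z, fun a => f ≫ F a, hZs, by rw [← Over.w f]; infer_instance, by rw [← Over.w f]; infer_instance,
    by show f ≫ F 0 = 1; rw [hF0, MonObj.comp_one], fun a b => (hfix f).mp ⟨𝟙 _, Category.id_comp f⟩ b a, fun Y g hg => ?_⟩
  have hg0 : g 0 = 1 := by
    have h := hg 0 0
    rwa [add_zero, left_eq_mul] at h
  obtain ⟨l, hl'⟩ := hlift Y g hg0
  obtain ⟨z, hz⟩ := (hfix l).mpr fun a i => by rw [hl', hl', hl', hg]
  exact ⟨z, fun a => by rw [← Category.assoc, hz, hl']⟩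

/-- The transporter of one tuple of commuting torsion sections into another is smooth and closed. -/
theorem exists_transp (hn : IsUnit (n : Γ(S, ⊤))) [Smooth G.hom] [IsSeparated G.hom] {κ : Type*}
    [Finite κ] (x y : κ → (𝟙_ (Over S) ⟶ G)) (hxn : ∀ k, x k ^ n = 1) (hyn : ∀ k, y k ^ n = 1)
    (hxc : ∀ k l, x k * x l = x l * x k) (hyc : ∀ k l, y k * y l = y l * y k) :
    ∃ (M : Over S) (j : M ⟶ G), IsClosedImmersion j.left ∧ Smooth M.hom ∧
      ∀ (Y : Over S) (g : Y ⟶ G), (∃ z, z ≫ j = g) ↔ ∀ k, g * (toUnit Y ≫ x k) = (toUnit Y ≫ y k) * g := by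
  classical
  haveI := Fintype.ofFinite κ
  suffices h : ∀ l : List κ, ∃ (M : Over S) (j : M ⟶ G), IsClosedImmersion j.left ∧ Smooth M.hom ∧
      ∀ (Y : Over S) (g : Y ⟶ G), (∃ z, z ≫ j = g) ↔ ∀ k ∈ l, g * (toUnit Y ≫ x k) = (toUnit Y ≫ y k) * g by
    obtain ⟨M, j, h1, h2, h3⟩ := h (Finset.univ : Finset κ).toList
    exact ⟨M, j, h1, h2, fun Y g => (h3 Y g).trans (by simp)⟩
  intro l
  induction l with
  | nil => exact ⟨G, 𝟙 G, inferInstanceAs (IsClosedImmersion (𝟙 G.left)), inferInstance, fun Y g => by simp⟩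
  | cons k l ih =>
    obtain ⟨M, j, hj, hMs, hM⟩ := ih
    haveI := hj; haveI := hMs
    haveI : IsSeparated M.hom := by rw [← Over.w j]; infer_instance
    haveI : Mono j := haveI : Mono j.left := inferInstance; Over.mono_of_mono_left _
    let X : ∀ (Y : Over S), κ → (Y ⟶ G) := fun Y k => toUnit Y ≫ x k
    let W : ∀ (Y : Over S), κ → (Y ⟶ G) := fun Y k => toUnit Y ≫ y k
    have hXc : ∀ (Y : Over S) k l, Commute (X Y k) (X Y l) := fun Y k l => by
      show _ * _ = _ * _
      rw [← MonObj.comp_mul, ← MonObj.comp_mul, hxc]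
    have hWc : ∀ (Y : Over S) k l, Commute (W Y k) (W Y l) := fun Y k l => by
      show _ * _ = _ * _
      rw [← MonObj.comp_mul, ← MonObj.comp_mul, hyc]
    choose t ht using fun a : ZMod n => (hM M ((W M k) ^ a.val * j * (X M k ^ a.val)⁻¹)).mpr fun i hi => by
      have h := (hM M j).mp ⟨𝟙 _, Category.id_comp j⟩ i hi
      calc (W M k) ^ a.val * j * (X M k ^ a.val)⁻¹ * X M i
          = (W M k) ^ a.val * (j * X M i) * (X M k ^ a.val)⁻¹ := by
            have := ((hXc M k i).pow_left a.val).inv_left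
            rw [_root_.mul_assoc _ _ (X M i), this.eq]
            group
        _ = W M i * ((W M k) ^ a.val * j * (X M k ^ a.val)⁻¹) := by
            rw [h, ← _root_.mul_assoc, ((hWc M k i).pow_left a.val).eq]
            group
    have hXn : ∀ (Y : Over S) k, X Y k ^ n = 1 := fun Y k => by rw [← comp_npow', hxn, MonObj.comp_one]
    have hWn : ∀ (Y : Over S) k, W Y k ^ n = 1 := fun Y k => by rw [← comp_npow', hyn, MonObj.comp_one]
    have htY : ∀ {Y : Over S} (z : Y ⟶ M) (a : ZMod n),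
        z ≫ t a ≫ j = (W Y k) ^ a.val * (z ≫ j) * (X Y k ^ a.val)⁻¹ := fun {Y} z a => by
      rw [ht, MonObj.comp_mul, MonObj.comp_mul, GrpObj.comp_inv, comp_npow', comp_npow']
      simp only [W, X, ← Category.assoc, toUnit_unique (z ≫ toUnit M) (toUnit Y)]
    obtain ⟨F, f, hf, hFs, hF⟩ := exists_fixed (X := M) hn t
      (by rw [← cancel_mono j, ht, ZMod.val_zero, pow_zero, pow_zero, inv_one, _root_.mul_one, _root_.one_mul,
        Category.id_comp])
      (fun a b => by
        rw [← cancel_mono j, ht, Category.assoc, htY, ht]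
        rw [add_comm a b, ZMod.val_add, ← pow_eq_pow_mod _ (hWn M k), ← pow_eq_pow_mod _ (hXn M k), pow_add,
          pow_add]
        rw [show X M k ^ b.val * X M k ^ a.val = X M k ^ b.val * X M k ^ a.val from rfl, mul_inv_rev]
        simp only [_root_.mul_assoc])
    haveI := hf; haveI := hFs
    refine ⟨F, f ≫ j, inferInstanceAs (IsClosedImmersion (f.left ≫ j.left)), hFs, fun Y g => ?_⟩
    rw [List.forall_mem_cons, ← hM Y g]
    constructor
    · rintro ⟨z, rfl⟩
      refine ⟨?_, z ≫ f, by simp⟩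
      rw [← Category.assoc]
      show _ * X Y k = W Y k * _
      rcases eq_or_ne n 1 with h1 | h1
      · have e1 := hXn Y k; have e2 := hWn Y k
        rw [h1, pow_one] at e1 e2
        rw [e1, e2, _root_.mul_one, _root_.one_mul]
      · haveI : Fact (1 < n) := ⟨by have := NeZero.ne n; omega⟩
        have h := congrArg (· ≫ j) ((hF Y (z ≫ f)).mp ⟨z, rfl⟩ 1)
        simp only [Category.assoc] at h
        rw [← Category.assoc z f (t 1 ≫ j), htY, ZMod.val_one, pow_one, pow_one, mul_inv_eq_iff_eq_mul,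
          Category.assoc] at h
        exact (by simpa only [Category.assoc] using h.symm)
    · rintro ⟨h, z, rfl⟩
      obtain ⟨w, hw⟩ := (hF Y z).mpr fun a => by
        rw [← cancel_mono j, Category.assoc, htY, mul_inv_eq_iff_eq_mul]
        exact ((show SemiconjBy (z ≫ j) (X Y k) (W Y k) from h).pow_right a.val).eq.symm
      exact ⟨w, by rw [← Category.assoc, hw]⟩

/-- The centraliser of commuting torsion sections is a smooth closed subgroup. -/
theorem exists_cent (hn : IsUnit (n : Γ(S, ⊤))) [Smooth G.hom] [IsSeparated G.hom] {κ : Type*}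
    [Finite κ] (x : κ → (𝟙_ (Over S) ⟶ G)) (hxn : ∀ k, x k ^ n = 1) (hxc : ∀ k l, x k * x l = x l * x k) :
    ∃ (Z : Over S) (_ : GrpObj Z) (j : Z ⟶ G), IsMonHom j ∧ IsClosedImmersion j.left ∧ Smooth Z.hom ∧
      ∀ (Y : Over S) (g : Y ⟶ G), (∃ z, z ≫ j = g) ↔ ∀ k, g * (toUnit Y ≫ x k) = (toUnit Y ≫ x k) * g := by
  obtain ⟨Z, j, hj, hZs, hZ⟩ := exists_transp hn x x hxn hxn hxc hxc
  haveI := hj
  haveI : Mono j := haveI : Mono j.left := inferInstance; Over.mono_of_mono_left _
  obtain ⟨_, h⟩ := exists_grp j (fun {Y} g => ∀ k, g * (toUnit Y ≫ x k) = (toUnit Y ≫ x k) * g) hZ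
    (fun Y k => by rw [_root_.one_mul, _root_.mul_one]) (fun ha hb k => (Commute.mul_left (ha k) (hb k)).eq)
    (fun ha k => (Commute.inv_left (ha k)).eq)
  exact ⟨Z, inferInstance, j, h, hj, hZs, hZ⟩

end Groth.Agent.TorsionCent
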