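import Groth.Agent.TorsionCent.Level
import Groth.Agent.MultTypeExt.Torsion
import Groth.Agent.NTors.EtalePow
import Groth.Agent.EtFound.SectionUnr

/-!
# Points, transporters over a parameter scheme and the torsion of a torus
-/

universe u

open CategoryTheory CategoryTheory.Limits MonoidalCategory CartesianMonoidalCategory MonObj AlgebraicGeometry

set_option backward.isDefEq.respectTransparency false
set_option backward.isDefEq.respectTransparency.types false
set_option linter.style.haveILetI false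
set_option synthInstance.maxHeartbeats 80000
set_option autoImplicit false

namespace Groth.Agent.TorsionCent

open GrpSchLib AGFLib AGFLib.Gen

variable {S : Scheme.{u}}

/-- A point of a base change, given by a morphism over the base. -/
theorem exists_pt {U : Scheme.{u}} (b : U ⟶ S) {X : Over S} (p : U ⟶ X.left) (hp : p ≫ X.hom = b) :
    ∃ z : 𝟙_ (Over U) ⟶ Red.bc b X, (DSPtsLib.theta b z).left = p := by
  obtain ⟨z, hz⟩ := (DSPtsLib.theta_bijective (g := b) (Y := 𝟙_ (Over U)) (H := X)).2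
    (Over.homMk p (hp.trans (Category.id_comp b).symm))
  exact ⟨z, congrArg CommaMorphism.left hz⟩

theorem theta_left_ext {U : Scheme.{u}} (b : U ⟶ S) {X : Over S} {Y : Over U} {z z' : Y ⟶ Red.bc b X}
    (h : (DSPtsLib.theta b z).left = (DSPtsLib.theta b z').left) : z = z' :=
  (DSPtsLib.theta_bijective b).1 (Over.OverMorphism.ext h)

/-- Reading a point over the old base commutes with base-changed morphisms. -/
theorem theta_map' {U : Scheme.{u}} (b : U ⟶ S) {X X' : Over S} {Y : Over U} (z : Y ⟶ Red.bc b X) (v : X ⟶ X') :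
    DSPtsLib.theta b (z ≫ (Over.pullback b).map v) = DSPtsLib.theta b z ≫ v :=
  (Over.mapPullbackAdj b).homEquiv_naturality_right_symm z v

theorem theta_left_cmp {S' S'' : Scheme.{u}} {g : S' ⟶ S} {h : S'' ⟶ S'} {k : S'' ⟶ S} (e : h ≫ g = k) {G : Over S}
    {Y : Over S''} (z : Y ⟶ Red.bc h (Red.bc g G)) :
    (DSPtsLib.theta k (z ≫ (GrpLimLib.cmp e G).hom)).left = (DSPtsLib.theta h z).left ≫ pullback.fst G.hom g := by
  rw [DSPtsLib.theta_left, DSPtsLib.theta_left, Over.comp_left, Category.assoc, GrpLimLib.cmp_hom_fst,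
    Category.assoc]

theorem theta_left_map {U : Scheme.{u}} (b : U ⟶ S) {X X' : Over S} {Y : Over U} (z : Y ⟶ Red.bc b X) (v : X ⟶ X') :
    (DSPtsLib.theta b (z ≫ (Over.pullback b).map v)).left = (DSPtsLib.theta b z).left ≫ v.left := by
  rw [show DSPtsLib.theta b (z ≫ (Over.pullback b).map v) = DSPtsLib.theta b z ≫ v from
    (Over.mapPullbackAdj b).homEquiv_naturality_right_symm z v, Over.comp_left]

/-- The transporter between two commuting tuples of torsion points with values in a parameter scheme. -/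
theorem exists_transp' {n : ℕ} [NeZero n] {G : Over S} [GrpObj G] (hn : IsUnit (n : Γ(S, ⊤))) [Smooth G.hom]
    [IsSeparated G.hom] {κ : Type*} [Finite κ] (Q : Over S) (x y : κ → (Q ⟶ G))
    (hxn : ∀ k, x k ^ n = 1) (hyn : ∀ k, y k ^ n = 1)
    (hxc : ∀ k l, x k * x l = x l * x k) (hyc : ∀ k l, y k * y l = y l * y k) :
    ∃ (M : Over S) (p : M ⟶ Q) (g : M ⟶ G), Smooth p.left ∧ (∀ k, g * (p ≫ x k) = (p ≫ y k) * g) ∧
      ∀ (Y : Over S) (a : Y ⟶ Q) (h : Y ⟶ G), (∀ k, h * (a ≫ x k) = (a ≫ y k) * h) →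
        ∃ l : Y ⟶ M, l ≫ p = a ∧ l ≫ g = h := by
  let q : Q.left ⟶ S := Q.hom
  haveI : Smooth (Red.bc q G).hom := inferInstanceAs (Smooth (pullback.snd G.hom q))
  haveI : IsSeparated (Red.bc q G).hom := inferInstanceAs (IsSeparated (pullback.snd G.hom q))
  let inc : (Over.map q).obj (𝟙_ (Over Q.left)) ≅ Q := Over.isoMk (Iso.refl _) (by
    show 𝟙 _ ≫ Q.hom = 𝟙 _ ≫ q
    rfl)
  choose x' hx' using fun k => (DSPtsLib.theta_bijective (g := q) (Y := 𝟙_ (Over Q.left)) (H := G)).2 (inc.hom ≫ x k)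
  choose y' hy' using fun k => (DSPtsLib.theta_bijective (g := q) (Y := 𝟙_ (Over Q.left)) (H := G)).2 (inc.hom ≫ y k)
  have hn' : IsUnit (n : Γ(Q.left, ⊤)) := by
    rw [← map_natCast q.appTop.hom]; exact hn.map _
  obtain ⟨M, j, hj, hMs, hM⟩ := exists_transp hn' x' y'
    (fun k => (DSPtsLib.theta_bijective q).1 (by
      rw [theta_npow, hx', ← comp_npow', hxn, MonObj.comp_one, HomUnitLocus.theta_one]))
    (fun k => (DSPtsLib.theta_bijective q).1 (by
      rw [theta_npow, hy', ← comp_npow', hyn, MonObj.comp_one, HomUnitLocus.theta_one]))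
    (fun k l => (DSPtsLib.theta_bijective q).1 (by
      rw [DSPtsLib.theta_mul, DSPtsLib.theta_mul, hx', hx', ← MonObj.comp_mul, hxc, MonObj.comp_mul]))
    (fun k l => (DSPtsLib.theta_bijective q).1 (by
      rw [DSPtsLib.theta_mul, DSPtsLib.theta_mul, hy', hy', ← MonObj.comp_mul, hyc, MonObj.comp_mul]))
  haveI := hMs
  let p : (Over.map q).obj M ⟶ Q := Over.homMk M.hom rfl
  have key : ∀ {Y : Over Q.left} (h : Y ⟶ Red.bc q G) (k : κ),
      (h * (toUnit Y ≫ x' k) = (toUnit Y ≫ y' k) * h) ↔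
        DSPtsLib.theta q h * ((Over.homMk Y.hom rfl : (Over.map q).obj Y ⟶ Q) ≫ x k) =
          ((Over.homMk Y.hom rfl : (Over.map q).obj Y ⟶ Q) ≫ y k) * DSPtsLib.theta q h := by
    intro Y h k
    have e : (Over.map q).map (toUnit Y) ≫ inc.hom = Over.homMk Y.hom rfl := Over.OverMorphism.ext (Category.comp_id _)
    rw [← e, Category.assoc, Category.assoc, ← hx', ← hy', ← DSPtsLib.theta_comp, ← DSPtsLib.theta_comp,
      ← DSPtsLib.theta_mul, ← DSPtsLib.theta_mul, (DSPtsLib.theta_bijective q).1.eq_iff]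
  refine ⟨(Over.map q).obj M, p, DSPtsLib.theta q j, hMs, fun k => (key j k).mp ((hM M j).mp ⟨𝟙 _, Category.id_comp _⟩ k),
    fun Y a h hrel => ?_⟩
  let Y' : Over Q.left := Over.mk a.left
  let e : Y ≅ (Over.map q).obj Y' := Over.isoMk (Iso.refl _) ((Category.id_comp _).trans (Over.w a))
  obtain ⟨h', hh'⟩ := (DSPtsLib.theta_bijective (g := q) (Y := Y') (H := G)).2 (e.inv ≫ h)
  obtain ⟨z, hz⟩ := (hM Y' h').mpr fun k => (key h' k).mpr (by
    have e' : (Over.homMk Y'.hom rfl : (Over.map q).obj Y' ⟶ Q) = e.inv ≫ a :=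
      Over.OverMorphism.ext (Category.id_comp _).symm
    rw [hh', e', Category.assoc, Category.assoc, ← MonObj.comp_mul, ← MonObj.comp_mul, hrel])
  refine ⟨e.hom ≫ (Over.map q).map z, Over.OverMorphism.ext ?_, ?_⟩
  · show (𝟙 Y.left ≫ z.left) ≫ M.hom = a.left
    rw [Category.id_comp]
    exact Over.w z
  · rw [Category.assoc, ← DSPtsLib.theta_comp, hz, hh', Iso.hom_inv_id_assoc]

/-- The scheme of torsion of a multiplicative-type group: finite etale. -/
theorem exists_torsion {A : Type u} [CommRing A] {T : Over (Spec (CommRingCat.of A))} [GrpObj T] [Smooth T.hom]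
    [QuasiCompact T.hom] (hT : SGA3x.IsMultTypeFT T) (n : ℕ) (hn0 : 0 < n)
    (hn : IsUnit (n : Γ(Spec (CommRingCat.of A), ⊤))) :
    ∃ (K : Over (Spec (CommRingCat.of A))) (κ : K ⟶ T), Mono κ ∧ IsFinite K.hom ∧ Etale K.hom ∧
      ∀ (Y : Over (Spec (CommRingCat.of A))) (h : Y ⟶ T), h ^ n = 1 ↔ ∃ l, l ≫ κ = h := by
  haveI : IsAffineHom T.hom := (TransLib.multTypeFT_essFree hT).1
  haveI : IsSeparated T.hom := inferInstance
  haveI : IsCommMonObj T := ⟨by
    rw [show μ[T] = fst T T * snd T T by rw [Hom.mul_def, lift_fst_snd, Category.id_comp], MonObj.comp_mul,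
      braiding_hom_fst, braiding_hom_snd,
      GrpSchLib.MultTypeComm.points_comm hT (snd T T) (fst T T)]⟩
  let pw : T ⟶ T := (𝟙 T) ^ n
  haveI : IsFinite pw.left := MultTypeExt.isFinite_npow T hT n hn0
  haveI : Etale pw.left := NTors.etale_powMap n fun s => by
    have h := (hn.map ((Spec (CommRingCat.of A)).presheaf.germ ⊤ s trivial).hom).map
      ((Spec (CommRingCat.of A)).residue s).hom
    rw [map_natCast, map_natCast] at h
    exact h.ne_zero
  haveI : IsClosedImmersion η[T].left := by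
    haveI : IsClosedImmersion (η[T].left ≫ T.hom) := by
      rw [Over.w η[T]]; exact inferInstanceAs (IsClosedImmersion (𝟙 _))
    exact IsClosedImmersion.of_comp η[T].left T.hom
  let K : Over (Spec (CommRingCat.of A)) := Over.mk (pullback.snd pw.left η[T].left)
  let κ : K ⟶ T := Over.homMk (pullback.fst pw.left η[T].left) (by
    rw [← Over.w pw, reassoc_of% pullback.condition]
    erw [Over.w η[T]]
    exact Category.comp_id _)
  haveI : IsFinite K.hom := inferInstanceAs (IsFinite (pullback.snd pw.left η[T].left))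
  haveI : Etale K.hom := inferInstanceAs (Etale (pullback.snd pw.left η[T].left))
  haveI : Mono κ.left := inferInstanceAs (Mono (pullback.fst pw.left η[T].left))
  refine ⟨K, κ, Over.mono_of_mono_left κ, ‹_›, ‹_›, fun Y h => ?_⟩
  have he : h ^ n = h ≫ pw := by rw [comp_npow', Category.comp_id]
  have h1 : ((1 : Y ⟶ T)).left = Y.hom ≫ η[T].left := by rw [Hom.one_def, Over.comp_left]; rfl
  rw [he]
  constructor
  · intro hh
    refine ⟨Over.homMk (pullback.lift h.left Y.hom (by rw [← Over.comp_left, hh, h1])) (pullback.lift_snd _ _ _),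
      Over.OverMorphism.ext (pullback.lift_fst _ _ _)⟩
  · rintro ⟨l, rfl⟩
    refine Over.OverMorphism.ext ?_
    rw [h1, ← Over.w l, Category.assoc, Over.comp_left, Over.comp_left, Category.assoc]
    exact congrArg (l.left ≫ ·) pullback.condition

end Groth.Agent.TorsionCent
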