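import Groth.Agent.TorsionCent.GoodLocus
import Groth.Agent.MaxTorTransp.Descend

/-!
# The open locus of tuples conjugate to generators of the torsion of a maximal torus
-/

universe u

open CategoryTheory CategoryTheory.Limits MonoidalCategory CartesianMonoidalCategory MonObj AlgebraicGeometry

set_option backward.isDefEq.respectTransparency false
set_option backward.isDefEq.respectTransparency.types false
set_option linter.style.haveILetI false
set_option synthInstance.maxHeartbeats 80000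
set_option autoImplicit false

namespace Groth.Agent.TorsionCent

open GrpSchLib GrpLimLib MaxTorCent MaxTorTransp AGFLib SolvGrp

variable {S S₂ : Scheme.{u}}

/-- Transport of a conjugation relation along the comparison of base changes. -/
theorem rel_transfer {U : Scheme.{u}} {π : S₂ ⟶ S} {b : U ⟶ S₂} {k : U ⟶ S} (e : b ≫ π = k) {G : Over S} [GrpObj G]
    {T : Over S₂} (i : T ⟶ Red.bc π G) (g : 𝟙_ (Over U) ⟶ Red.bc b (Red.bc π G)) (t : 𝟙_ (Over U) ⟶ Red.bc b T)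
    (v : (Over.map b).obj (𝟙_ (Over U)) ⟶ Red.bc π G) (X : 𝟙_ (Over U) ⟶ Red.bc k G)
    (hX : (DSPtsLib.theta k X).left = v.left ≫ pullback.fst G.hom π) :
    DSPtsLib.theta b g * (DSPtsLib.theta b t ≫ i) = v * DSPtsLib.theta b g ↔
      (g ≫ (cmp e G).hom) * ((t ≫ (Over.pullback b).map i) ≫ (cmp e G).hom) = X * (g ≫ (cmp e G).hom) := by
  haveI := GrpLimLib.isMonHom_cmp e G
  obtain ⟨w, hw⟩ := (DSPtsLib.theta_bijective (g := b)).2 v
  have hwX : w ≫ (cmp e G).hom = X := theta_left_ext k (by rw [theta_left_cmp, hw, hX])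
  rw [← hw, ← hwX, ← MonObj.mul_comp, ← MonObj.mul_comp, cancel_mono, ← theta_map',
    ← DSPtsLib.theta_mul, ← DSPtsLib.theta_mul, (DSPtsLib.theta_bijective b).1.eq_iff]

section Field

variable {Ω : Type u} [Field Ω] [IsAlgClosed Ω]

local notation "PT" => 𝟙_ (Over (Spec (CommRingCat.of Ω)))

/-- A tuple conjugate to generators of the torsion of one maximal torus is conjugate to generators of the torsion of
any other. -/
theorem exists_conj_tuple {G T₁ T₂ : Over (Spec (CommRingCat.of Ω))} [GrpObj G] [GrpObj T₁] [GrpObj T₂] [Smooth G.hom]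
    [QuasiCompact G.hom] {ι₁ : T₁ ⟶ G} {ι₂ : T₂ ⟶ G} (h₁ : AGF.IsMaxTorus ι₁) (h₂ : AGF.IsMaxTorus ι₂) {α : Type*}
    [Add α] {n : ℕ} (y : α → (PT ⟶ T₁)) (hy : ∀ a b, y (a + b) = y a * y b)
    (hsurj : ∀ τ : PT ⟶ T₁, τ ^ n = 1 → ∃ a, y a = τ) (X : α → (PT ⟶ G)) (g₁ : PT ⟶ G)
    (hrel : ∀ a, g₁ * (y a ≫ ι₁) = X a * g₁) :
    ∃ (f : α → (PT ⟶ T₂)) (g₂ : PT ⟶ G), (∀ a b, f (a + b) = f a * f b) ∧
      (∀ τ : PT ⟶ T₂, τ ^ n = 1 → ∃ a, f a = τ) ∧ ∀ a, g₂ * (f a ≫ ι₂) = X a * g₂ := by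
  haveI := h₁.1; haveI := h₁.2.1; haveI := h₂.1; haveI := h₂.2.1
  obtain ⟨g, φ, hφ⟩ := exists_conj_maxTorus h₁ h₂
  haveI : IsMonHom φ.hom := AGFLib.isMonHom_of_mul φ.hom fun Y a b => by
    rw [← cancel_mono ι₂, MonObj.mul_comp (a ≫ φ.hom), Category.assoc, Category.assoc, Category.assoc, hφ,
      Borel.conjBy_eq, MonObj.mul_comp a b (ι₁ ≫ Borel.conjM g)]
  haveI : IsMonHom φ.inv := AGFLib.isMonHom_of_mul φ.inv fun Y a b => by
    rw [← cancel_mono φ.hom, MonObj.mul_comp (a ≫ φ.inv), Category.assoc, Category.assoc, Category.assoc, Iso.inv_hom_id,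
      Category.comp_id, Category.comp_id, Category.comp_id]
  refine ⟨fun a => y a ≫ φ.hom, g₁ * g⁻¹, fun a b => by show y (a + b) ≫ φ.hom = _; rw [hy, MonObj.mul_comp], fun τ hτ => ?_, fun a => ?_⟩
  · obtain ⟨a, ha⟩ := hsurj (τ ≫ φ.inv) (by rw [← npow_comp', hτ, MonObj.one_comp])
    exact ⟨a, by show y a ≫ φ.hom = τ; rw [ha, Category.assoc, Iso.inv_hom_id, Category.comp_id]⟩
  · show g₁ * g⁻¹ * ((y a ≫ φ.hom) ≫ ι₂) = X a * (g₁ * g⁻¹)
    rw [Category.assoc, hφ, Borel.conjBy_eq, ← Category.assoc, Borel.comp_conjM, toUnit_unique (toUnit PT) (𝟙 PT),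
      Category.id_comp, _root_.mul_assoc g (y a ≫ ι₁), _root_.mul_assoc g₁, inv_mul_cancel_left,
      ← _root_.mul_assoc g₁, ← _root_.mul_assoc (X a), hrel]

end Field

variable {A B : Type u} [CommRing A] [CommRing B]

local notation "SA" => Spec (CommRingCat.of A)
local notation "SB" => Spec (CommRingCat.of B)

set_option maxHeartbeats 800000 in
/-- Tuples conjugate to generators of the torsion of the maximal torus form a saturated open set. -/
theorem saturated (π : SB ⟶ SA) {G : Over SA} [GrpObj G] [Smooth G.hom] [IsSeparated G.hom] [QuasiCompact G.hom]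
    {T : Over SB} [GrpObj T] {i : T ⟶ Red.bc π G} (hi : Red.IsMaximalTorus i) {n r : ℕ} [NeZero n]
    {𝓧 : Over SA} (x : (Fin r → ZMod n) → (𝓧 ⟶ G)) {H : Over SB} (y : (Fin r → ZMod n) → (H ⟶ T))
    (hyadd : ∀ a b, y (a + b) = y a * y b)
    (huniv : ∀ (Y : Over SB) (f : (Fin r → ZMod n) → (Y ⟶ T)), (∀ a b, f (a + b) = f a * f b) →
      ∃ l : Y ⟶ H, ∀ a, l ≫ y a = f a)
    (W : H.left.Opens)
    (hW : ∀ (Ω : Type u) [Field Ω] [IsAlgClosed Ω] (b : Spec (CommRingCat.of Ω) ⟶ SB)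
      (l : 𝟙_ (Over _) ⟶ Red.bc b H), (DSPtsLib.theta b l).left (IsLocalRing.closedPoint Ω) ∈ W ↔
        ∀ τ : 𝟙_ (Over _) ⟶ Red.bc b T, τ ^ n = 1 → ∃ a, l ≫ (Over.pullback b).map (y a) = τ)
    {M : Over SB} (p : M ⟶ Red.bc π 𝓧 ⊗ H) (gM : M ⟶ Red.bc π G)
    (hrel : ∀ a, gM * ((p ≫ snd _ H) ≫ y a ≫ i) = ((p ≫ fst _ H) ≫ (Over.pullback π).map (x a)) * gM)
    (hlift : ∀ (Y : Over SB) (a : Y ⟶ Red.bc π 𝓧 ⊗ H) (h : Y ⟶ Red.bc π G),
      (∀ k, h * ((a ≫ snd _ H) ≫ y k ≫ i) = ((a ≫ fst _ H) ≫ (Over.pullback π).map (x k)) * h) →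
        ∃ l : Y ⟶ M, l ≫ p = a ∧ l ≫ gM = h)
    (m : M.left) (hm : (p ≫ snd _ H).left m ∈ W) (p₂ : (Red.bc π 𝓧).left)
    (hp : pullback.fst 𝓧.hom π p₂ = pullback.fst 𝓧.hom π ((p ≫ fst _ H).left m)) :
    ∃ m₂ : M.left, (p ≫ snd _ H).left m₂ ∈ W ∧ (p ≫ fst _ H).left m₂ = p₂ := by
  let px := (p ≫ fst (Red.bc π 𝓧) H).left
  let pr : (Red.bc π 𝓧).left ⟶ 𝓧.left := pullback.fst 𝓧.hom π
  obtain ⟨z, hz1, hz2⟩ := Scheme.Pullback.exists_preimage_pullback (f := px ≫ pr) (g := pr) m p₂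
    (by rw [Scheme.Hom.comp_apply]; exact hp.symm)
  let P := pullback (px ≫ pr) pr
  let Ω := AlgebraicClosure (P.residueField z)
  let zb : Spec (CommRingCat.of Ω) ⟶ P :=
    Spec.map (CommRingCat.ofHom (algebraMap (P.residueField z) Ω)) ≫ P.fromSpecResidueField z
  have hzb : zb (IsLocalRing.closedPoint Ω) = z := by
    rw [Scheme.Hom.comp_apply]
    exact Scheme.fromSpecResidueField_apply z _
  let e₁ : Spec (CommRingCat.of Ω) ⟶ M.left := zb ≫ pullback.fst _ _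
  let e₂ : Spec (CommRingCat.of Ω) ⟶ (Red.bc π 𝓧).left := zb ≫ pullback.snd _ _
  have he : e₁ ≫ px ≫ pr = e₂ ≫ pr := by simp only [e₁, e₂, Category.assoc, pullback.condition]
  let b₁ : Spec (CommRingCat.of Ω) ⟶ SB := e₁ ≫ M.hom
  let b₂ : Spec (CommRingCat.of Ω) ⟶ SB := e₂ ≫ (Red.bc π 𝓧).hom
  let k : Spec (CommRingCat.of Ω) ⟶ SA := b₁ ≫ π
  have hpr : pr ≫ 𝓧.hom = (Red.bc π 𝓧).hom ≫ π := pullback.condition
  have hk₂ : b₂ ≫ π = k := by
    simp only [b₂, k, b₁, Category.assoc, ← hpr]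
    rw [← reassoc_of% he, ← Over.w (p ≫ fst (Red.bc π 𝓧) H)]
    simp only [Category.assoc, hpr]
    rfl
  haveI : Smooth (Red.bc π G).hom := inferInstanceAs (Smooth (pullback.snd G.hom π))
  haveI : IsSeparated (Red.bc π G).hom := inferInstanceAs (IsSeparated (pullback.snd G.hom π))
  haveI : QuasiCompact (Red.bc π G).hom := inferInstanceAs (QuasiCompact (pullback.snd G.hom π))
  haveI : Smooth (Red.bc k G).hom := inferInstanceAs (Smooth (pullback.snd G.hom k))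
  haveI : QuasiCompact (Red.bc k G).hom := inferInstanceAs (QuasiCompact (pullback.snd G.hom k))
  haveI := GrpLimLib.isMonHom_cmp (rfl : b₁ ≫ π = k) G
  haveI := GrpLimLib.isMonHom_cmp hk₂ G
  have h₁ := isMaxTorus_of_isMaximalTorus (isMaximalTorus_comp_iso (isMaximalTorus_bc hi b₁) (cmp (rfl : b₁ ≫ π = k) G).hom)
  have h₂ := isMaxTorus_of_isMaximalTorus (isMaximalTorus_comp_iso (isMaximalTorus_bc hi b₂) (cmp hk₂ G).hom)
  let E₁ : (Over.map b₁).obj (𝟙_ (Over (Spec (CommRingCat.of Ω)))) ⟶ M := Over.homMk e₁ (Category.id_comp b₁).symm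
  let E₂ : (Over.map b₂).obj (𝟙_ (Over (Spec (CommRingCat.of Ω)))) ⟶ Red.bc π 𝓧 :=
    Over.homMk e₂ (Category.id_comp b₂).symm
  obtain ⟨l₁, hl₁⟩ := (DSPtsLib.theta_bijective (g := b₁)).2 (E₁ ≫ p ≫ snd _ H)
  obtain ⟨g₁, hg₁⟩ := (DSPtsLib.theta_bijective (g := b₁)).2 (E₁ ≫ gM)
  choose X hX using fun a => exists_pt (X := G) k (e₂ ≫ pr ≫ (x a).left) (by
    have hxw := Over.w (x a)
    simp only [e₂, Category.assoc, hxw, hpr, ← hk₂, b₂])
  have hv₁ : ∀ a, (DSPtsLib.theta k (X a)).left =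
      ((E₁ ≫ p ≫ fst _ H) ≫ (Over.pullback π).map (x a)).left ≫ pullback.fst G.hom π := fun a => by
    rw [hX, ← reassoc_of% he]
    simp only [E₁, px, pr, Over.comp_left, Over.homMk_left, Category.assoc, GrpLimLib.map_left_fst]
  have hv₂ : ∀ a, (DSPtsLib.theta k (X a)).left =
      (E₂ ≫ (Over.pullback π).map (x a)).left ≫ pullback.fst G.hom π := fun a => by
    rw [hX]
    simp only [E₂, pr, Over.comp_left, Over.homMk_left, Category.assoc, GrpLimLib.map_left_fst]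
  have hrel₁ : ∀ a, (g₁ ≫ (cmp (rfl : b₁ ≫ π = k) G).hom) * ((l₁ ≫ (Over.pullback b₁).map (y a)) ≫
      ((Over.pullback b₁).map i ≫ (cmp (rfl : b₁ ≫ π = k) G).hom)) =
      X a * (g₁ ≫ (cmp (rfl : b₁ ≫ π = k) G).hom) := fun a => by
    rw [← Category.assoc (l₁ ≫ _)]
    refine (rel_transfer rfl i g₁ _ _ (X a) (hv₁ a)).mp ?_
    rw [hg₁, theta_map', hl₁]
    have h := congrArg (E₁ ≫ ·) (hrel a)
    simpa only [MonObj.comp_mul, Category.assoc] using h
  have hw₁ := (hW Ω b₁ l₁).mp (by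
    rw [hl₁, Over.comp_left, Scheme.Hom.comp_apply]
    show (p ≫ snd _ H).left (e₁ (IsLocalRing.closedPoint Ω)) ∈ W
    rw [Scheme.Hom.comp_apply zb, hzb, hz1]
    exact hm)
  haveI : (Over.pullback b₁).IsRightAdjoint := (Over.mapPullbackAdj b₁).isRightAdjoint
  obtain ⟨f, g₂, hf, hfs, hf₂⟩ := exists_conj_tuple h₁ h₂ (fun a => l₁ ≫ (Over.pullback b₁).map (y a))
    (fun a b => (DSPtsLib.theta_bijective b₁).1 (by
      rw [DSPtsLib.theta_mul, theta_map', theta_map', theta_map',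
        hyadd, MonObj.comp_mul])) hw₁ X _ hrel₁
  obtain ⟨L, hL⟩ := huniv _ (fun a => DSPtsLib.theta b₂ (f a)) fun a b => by rw [hf, DSPtsLib.theta_mul]
  obtain ⟨l₂, hl₂⟩ := (DSPtsLib.theta_bijective (g := b₂)).2 L
  let g₂' := g₂ ≫ (cmp hk₂ G).inv
  obtain ⟨lM, hlM1, hlM2⟩ := hlift _ (lift E₂ L) (DSPtsLib.theta b₂ g₂') fun a => by
    rw [lift_fst, lift_snd, ← Category.assoc L, hL]
    refine (rel_transfer hk₂ i g₂' _ _ (X a) (hv₂ a)).mpr ?_
    simp only [g₂', Category.assoc, Iso.inv_hom_id, Category.comp_id]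
    exact hf₂ a
  refine ⟨lM.left (IsLocalRing.closedPoint Ω), ?_, ?_⟩
  · have h := (hW Ω b₂ l₂).mpr fun τ hτ => by
      obtain ⟨a, ha⟩ := hfs τ hτ
      exact ⟨a, (DSPtsLib.theta_bijective b₂).1 (by rw [theta_map', hl₂, hL, ha])⟩
    rw [hl₂, ← show lM ≫ p ≫ snd _ H = L by rw [reassoc_of% hlM1, lift_snd], Over.comp_left,
      Scheme.Hom.comp_apply] at h
    exact h
  · rw [← Scheme.Hom.comp_apply, ← Over.comp_left, reassoc_of% hlM1, lift_fst]
    show e₂ _ = p₂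
    rw [Scheme.Hom.comp_apply, hzb]
    exact hz2

end Groth.Agent.TorsionCent
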