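import Groth.Agent.TorsionCent.Roots
import Groth.Agent.HomRepLib.Split
import Groth.Agent.MultTypeLib.FixedSmooth
import Groth.Agent.TorusQI.Geom
import Groth.Agent.GrpLimLib.Basic
import Mathlib.AlgebraicGeometry.Morphisms.LocalFlatDescent
import Mathlib.RingTheory.Flat.FaithfullyFlat.Algebra

/-!
# Fixed loci of periodic automorphisms of smooth schemes

If `n` is invertible, an `n`-periodic family of automorphisms gives, after adjoining roots of unity, an action of a
group of multiplicative type, so that the fixed locus is smooth.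
-/

universe u

open CategoryTheory CategoryTheory.Limits MonoidalCategory CartesianMonoidalCategory MonObj AlgebraicGeometry
open Groth.Agent.HomRepLib

set_option backward.isDefEq.respectTransparency.types false
set_option linter.style.haveILetI false
set_option autoImplicit false
set_option maxHeartbeats 800000

namespace Groth.Agent.TorsionCent

variable {S : Scheme.{u}} {n : ℕ} [NeZero n]

/-- With a character a periodic family of automorphisms gives an action of a diagonalisable group with the same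
fixed points. -/
theorem exists_action (c : Character n Γ(S, ⊤)) (u : Γ(S, ⊤)) (hu : (n : Γ(S, ⊤)) * u = 1) {X : Over S}
    (t : ZMod n → (X ⟶ X)) (h0 : t 0 = 𝟙 X) (hadd : ∀ a b, t (a + b) = t a ≫ t b) :
    ∃ act : AlgGrp.Action (Red.DS S (ZMod n)) X, ∀ (T : Over S) (x : T ⟶ X),
      MultTypeLib.FixedLift.FixPt act x ↔ ∀ i, x ≫ t i = x := by
  classical
  let D := Red.DS S (ZMod n)
  choose p hp using fun a : ZMod n => exists_ev (S := S) (X := 𝟙_ (Over S)) (M := ZMod n)
    { toFun := fun m => c.χ (a * Multiplicative.toAdd m)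
      map_one' := by simp [c.map_zero]
      map_mul' := fun m m' => by rw [toAdd_mul, mul_add, c.map_add] }
  let cY : ∀ Y : Over S, Character n Γ(Y.left, ⊤) := fun Y => c.map Y.hom.appTop.hom
  let uY : ∀ Y : Over S, Γ(Y.left, ⊤) := fun Y => Y.hom.appTop.hom u
  have huY : ∀ Y : Over S, (n : Γ(Y.left, ⊤)) * uY Y = 1 := fun Y => by
    show (n : Γ(Y.left, ⊤)) * Y.hom.appTop.hom u = 1
    rw [← map_natCast Y.hom.appTop.hom, ← map_mul, hu, map_one]
  let e : ∀ {Y : Over S}, (Y ⟶ D) → ZMod n → Γ(Y.left, ⊤) := fun {Y} d a => (cY Y).idem (uY Y) (ev d) a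
  have hp' : ∀ (Y : Over S) (a m : ZMod n), ev (toUnit Y ≫ p a) m = (cY Y).χ (a * m) := fun Y a m => by
    rw [ev_comp, hp]
    have hh : (toUnit Y).left = Y.hom := (Category.comp_id _).symm.trans (Over.w (toUnit Y))
    rw [hh]
    rfl
  -- naturality
  have enat : ∀ {Y Y' : Over S} (h : Y' ⟶ Y) (d : Y ⟶ D) (a : ZMod n),
      e (h ≫ d) a = h.left.appTop.hom (e d a) := fun {Y Y'} h d a => by
    have hY : ∀ r : Γ(S, ⊤), Y'.hom.appTop.hom r = h.left.appTop.hom (Y.hom.appTop.hom r) := fun r => by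
      rw [← Over.w h, Scheme.Hom.comp_appTop]; rfl
    simp only [e, Character.idem, cY, uY, Character.map, map_mul, map_sum, ev_comp, hY]
  -- covering and disjointness
  have hcov : ∀ {Y : Over S} (d : Y ⟶ D) (y : Y.left), ∃ a : ULift.{u} (ZMod n), y ∈ Y.left.basicOpen (e d a.down) := by
    intro Y d y
    by_contra hne
    push_neg at hne
    have h1 : ∀ a, ¬ IsUnit (Y.left.presheaf.germ ⊤ y trivial (e d a)) := fun a ha =>
      hne ⟨a⟩ ((Y.left.mem_basicOpen (e d a) y trivial).mpr ha)
    have h2 : ∀ s : Finset (ZMod n),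
        (∑ a ∈ s, Y.left.presheaf.germ ⊤ y trivial (e d a)) ∈ IsLocalRing.maximalIdeal (Y.left.presheaf.stalk y) :=
      fun s => Ideal.sum_mem _ fun a _ => h1 a
    have h3 := h2 Finset.univ
    rw [← map_sum, (cY Y).sum_idem (uY Y) (huY Y) (ev d) (ev_zero d), map_one] at h3
    exact (IsLocalRing.maximalIdeal.isMaximal _).ne_top ((Ideal.eq_top_iff_one _).mpr h3)
  have hdisj : ∀ {Y : Over S} (d : Y ⟶ D) (a b : ULift.{u} (ZMod n)) (y : Y.left),
      y ∈ Y.left.basicOpen (e d a.down) → y ∈ Y.left.basicOpen (e d b.down) → a = b := by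
    intro Y d a b y ha hb
    by_contra hab
    have h := ((Y.left.mem_basicOpen (U := ⊤) _ y trivial).mp hb).mul ((Y.left.mem_basicOpen (U := ⊤) _ y trivial).mp ha)
    rw [← map_mul, (cY Y).idem_mul_idem (uY Y) (huY Y) (ev d) (ev_add d) (fun h => hab (ULift.down_injective h)),
      map_zero] at h
    exact not_isUnit_zero h
  -- on a piece the point is constant
  have hconst : ∀ {Y : Over S} (d : Y ⟶ D) (a : ZMod n),
      (∀ y : Y.left, y ∈ Y.left.basicOpen (e d a)) → d = toUnit Y ≫ p a := by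
    intro Y d a ha
    have hunit : IsUnit (e d a) := by
      have h' := Y.left.toRingedSpace.isUnit_res_basicOpen (U := ⊤) (e d a)
      have htop : Y.left.basicOpen (e d a) = ⊤ := eq_top_iff.mpr fun y _ => ha y
      exact (Y.left.toRingedSpace.isUnit_of_isUnit_germ ⊤ (e d a) fun y hy =>
        (Y.left.mem_basicOpen _ y hy).mp (ha y))
    refine ev_ext fun m => ?_
    rw [hp']
    exact hunit.mul_left_injective ((cY Y).idem_mul (uY Y) (ev d) (ev_add d) a m)
  have hrange : ∀ {Y Y' : Over S} (h : Y' ⟶ Y) (d : Y ⟶ D) (a : ZMod n),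
      Set.range h.left ⊆ (Y.left.basicOpen (e d a) : Set Y.left) → h ≫ d = toUnit Y' ≫ p a := by
    intro Y Y' h d a hr
    refine hconst _ a fun y => ?_
    rw [enat, ← Scheme.preimage_basicOpen_top]
    exact hr ⟨y, rfl⟩
  -- the action
  let P : ULift.{u} (ZMod n) → (D ⊗ X).left.Opens := fun a => (D ⊗ X).left.basicOpen (e (fst D X) a.down)
  obtain ⟨act, hact⟩ := exists_glue (X := D ⊗ X) P (hcov _) (hdisj _) fun a => inc (D ⊗ X) (P a) ≫ snd D X ≫ t a.down
  have hval : ∀ {Y : Over S} (d : Y ⟶ D) (x : Y ⟶ X) (a : ZMod n), d = toUnit Y ≫ p a →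
      lift d x ≫ act = x ≫ t a := by
    intro Y d x a hd
    refine hom_ext_pieces (fun b : ULift.{u} (ZMod n) => Y.left.basicOpen (e d b.down)) (hcov d) fun b => ?_
    let i := inc Y (Y.left.basicOpen (e d b.down))
    have hb : ∀ z : (piece Y (Y.left.basicOpen (e d b.down))).left, b.down = a := fun z => by
      have hz : i.left z ∈ Y.left.basicOpen (e d b.down) := range_inc Y _ ⟨z, rfl⟩
      by_contra hne
      have h1 : ev d = fun m => (cY Y).χ (a * m) := funext fun m => by rw [hd, hp']
      have h2 : e d b.down = 0 := by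
        show (cY Y).idem _ (ev d) b.down = 0
        rw [h1]
        simp only [Character.idem, ← (cY Y).map_add]
        rw [show (fun m => (cY Y).χ (-(b.down * m) + a * m)) = fun m => (cY Y).χ ((a - b.down) * m) from
          funext fun m => by congr 1; ring, (cY Y).orth _ (sub_ne_zero.mpr (Ne.symm hne)), mul_zero]
      exact (SetLike.ext_iff.mp ((congrArg Y.left.basicOpen h2).trans (Scheme.basicOpen_zero ..)) _).mp hz
    rcases isEmpty_or_nonempty (piece Y (Y.left.basicOpen (e d b.down))).left with hemp | ⟨⟨z⟩⟩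
    · exact Over.OverMorphism.ext (isInitialOfIsEmpty.hom_ext _ _)
    · obtain ⟨l, hl⟩ := exists_fac_inc (P b) (i ≫ lift d x) (by
        rintro _ ⟨w, rfl⟩
        show (i ≫ lift d x).left w ∈ (D ⊗ X).left.basicOpen (e (fst D X) b.down)
        rw [Over.comp_left, Scheme.Hom.comp_apply]
        show i.left w ∈ (lift d x).left ⁻¹ᵁ ((D ⊗ X).left.basicOpen (e (fst D X) b.down))
        rw [Scheme.preimage_basicOpen_top, ← enat, lift_fst]
        exact range_inc Y _ ⟨w, rfl⟩)
      show i ≫ _ = i ≫ _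
      rw [← Category.assoc, ← hl, Category.assoc, hact, ← Category.assoc, hl, Category.assoc, lift_snd_assoc,
        show t b.down = t a from congrArg t (hb z)]
  have hgen : ∀ {Y : Over S} (d : Y ⟶ D) (x x' : Y ⟶ X),
      (∀ (Y' : Over S) (h : Y' ⟶ Y) (a : ZMod n), h ≫ d = toUnit Y' ≫ p a → h ≫ x = h ≫ x') → x = x' := by
    intro Y d x x' h
    exact hom_ext_pieces (fun b : ULift.{u} (ZMod n) => Y.left.basicOpen (e d b.down)) (hcov d) fun b =>
      h _ _ b.down (hrange _ d b.down (range_inc Y _))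
  have hmulp : ∀ (Y : Over S) (a b : ZMod n), (toUnit Y ≫ p a) * (toUnit Y ≫ p b) = toUnit Y ≫ p (a + b) :=
    fun Y a b => ev_ext fun m => by rw [ev_mul, hp', hp', hp', add_mul, (cY Y).map_add]
  have hone : ∀ Y : Over S, (1 : Y ⟶ D) = toUnit Y ≫ p 0 := fun Y =>
    ev_ext fun m => by rw [ev_one, hp', zero_mul, (cY Y).map_zero]
  refine ⟨⟨act, ?_, ?_⟩, fun T x => ?_⟩
  · have h1 : η[D] ▷ X = lift (1 : 𝟙_ (Over S) ⊗ X ⟶ D) (snd _ X) := by
      apply CartesianMonoidalCategory.hom_ext
      · rw [whiskerRight_fst, lift_fst, Hom.one_def, toUnit_unique (fst _ X) (toUnit _)]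
      · rw [whiskerRight_snd, lift_snd]
    rw [h1, hval _ _ 0 (hone _), h0, Category.comp_id, leftUnitor_hom]
  · have h1 : μ[D] ▷ X = lift ((fst _ X ≫ fst D D) * (fst _ X ≫ snd D D)) (snd (D ⊗ D) X) := by
      apply CartesianMonoidalCategory.hom_ext
      · rw [whiskerRight_fst, lift_fst, ← MonObj.comp_mul, Hom.mul_def, lift_fst_snd, Category.id_comp]
      · rw [whiskerRight_snd, lift_snd]
    have h2 : (α_ D D X).hom ≫ (D ◁ act) =
        lift (fst _ X ≫ fst D D) (lift (fst _ X ≫ snd D D) (snd _ X) ≫ act) := by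
      apply CartesianMonoidalCategory.hom_ext
      · simp
      · rw [lift_snd, Category.assoc, whiskerLeft_snd, ← Category.assoc]
        congr 1
        apply CartesianMonoidalCategory.hom_ext <;> simp
    rw [h1, ← Category.assoc, h2]
    refine hgen (fst (D ⊗ D) X ≫ fst D D) _ _ fun Y h a ha => hgen (h ≫ fst (D ⊗ D) X ≫ snd D D) _ _ fun Y' h' b hb => ?_
    simp only [comp_lift_assoc, MonObj.comp_mul]
    have ha' : h' ≫ h ≫ fst (D ⊗ D) X ≫ fst D D = toUnit Y' ≫ p a := by
      rw [ha, ← Category.assoc, toUnit_unique (h' ≫ toUnit Y) (toUnit Y')]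
    rw [ha', hb, hmulp, hval _ _ _ rfl, hval _ _ _ rfl, hval _ _ _ rfl, add_comm a b, hadd]
    simp
  · constructor
    · intro h i
      have := h T (𝟙 T) (toUnit T ≫ p i)
      rwa [Category.id_comp, hval _ _ i rfl] at this
    · intro h T' q g
      refine hgen g _ _ fun Y k a ha => ?_
      rw [comp_lift_assoc, hval _ _ a ha, Category.assoc, Category.assoc, h]

/-- The common fixed locus of finitely many endomorphisms of a separated scheme is closed. -/
theorem exists_locus {X : Over S} [IsSeparated X.hom] {κ : Type*} [Finite κ] (t : κ → (X ⟶ X)) :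
    ∃ (F : Over S) (f : F ⟶ X), IsClosedImmersion f.left ∧
      ∀ (T : Over S) (x : T ⟶ X), (∃ y : T ⟶ F, y ≫ f = x) ↔ ∀ i, x ≫ t i = x := by
  classical
  have hl : ∀ l : List κ, ∃ (F : Over S) (f : F ⟶ X), IsClosedImmersion f.left ∧
      ∀ (T : Over S) (x : T ⟶ X), (∃ y : T ⟶ F, y ≫ f = x) ↔ ∀ i ∈ l, x ≫ t i = x := by
    intro l
    induction l with
    | nil => exact ⟨X, 𝟙 X, inferInstanceAs (IsClosedImmersion (𝟙 X.left)), fun T x => by simp⟩
    | cons i l ih =>
      obtain ⟨F, f, hf, hF⟩ := ih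
      haveI := hf
      haveI : IsSeparated F.hom := by rw [← Over.w f]; infer_instance
      let d : X ⟶ X ⊗ X := lift (𝟙 X) (𝟙 X)
      have hd : d.left = pullback.diagonal X.hom := by
        apply pullback.hom_ext
        · exact (congrArg CommaMorphism.left (lift_fst (𝟙 X) (𝟙 X))).trans (pullback.diagonal_fst X.hom).symm
        · exact (congrArg CommaMorphism.left (lift_snd (𝟙 X) (𝟙 X))).trans (pullback.diagonal_snd X.hom).symm
      haveI : IsClosedImmersion d.left := by rw [hd]; infer_instance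
      let g : F ⟶ X ⊗ X := lift f (f ≫ t i)
      let E : Over S := Over.mk (pullback.fst g.left d.left ≫ F.hom)
      let j : E ⟶ F := Over.homMk (pullback.fst g.left d.left) rfl
      refine ⟨E, j ≫ f, inferInstanceAs (IsClosedImmersion (pullback.fst g.left d.left ≫ f.left)), fun T x => ?_⟩
      constructor
      · rintro ⟨y, rfl⟩ k hk
        rcases List.mem_cons.mp hk with rfl | hk
        · let e : E ⟶ X := Over.homMk (pullback.snd g.left d.left) (by
            rw [← Over.w d, ← Category.assoc, ← pullback.condition, Category.assoc, Over.w g]; rfl)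
          have h1 : j ≫ g = e ≫ d := Over.OverMorphism.ext pullback.condition
          have h2 := congrArg (fun k => k ≫ fst X X) h1
          have h3 := congrArg (fun k => k ≫ snd X X) h1
          simp [g, d] at h2 h3
          simp only [Category.assoc]
          rw [h2, h3]
        · exact (hF T (y ≫ j ≫ f)).mp ⟨y ≫ j, by simp⟩ k hk
      · intro h
        obtain ⟨y, hy⟩ := (hF T x).mpr fun k hk => h k (List.mem_cons_of_mem _ hk)
        have h1 : y ≫ g = x ≫ d := by
          simp only [g, d, comp_lift, Category.comp_id, reassoc_of% hy, h i (List.mem_cons_self ..), hy]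
        refine ⟨Over.homMk (pullback.lift y.left x.left (congrArg CommaMorphism.left h1)) (by
          show pullback.lift _ _ _ ≫ pullback.fst _ _ ≫ F.hom = _
          rw [pullback.lift_fst_assoc, Over.w y]), ?_⟩
        refine Eq.trans ?_ hy
        rw [← Category.assoc]
        congr 1
        exact Over.OverMorphism.ext (pullback.lift_fst _ _ _)
  haveI := Fintype.ofFinite κ
  obtain ⟨F, f, hf, hF⟩ := hl (Finset.univ : Finset κ).toList
  exact ⟨F, f, hf, fun T x => (hF T x).trans (by simp)⟩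

/-- The common fixed locus commutes with base change. -/
theorem locus_bc {S' : Scheme.{u}} (π : S' ⟶ S) {X F : Over S} {κ : Type*} {t : κ → (X ⟶ X)} {f : F ⟶ X}
    (hF : ∀ (T : Over S) (x : T ⟶ X), (∃ y : T ⟶ F, y ≫ f = x) ↔ ∀ i, x ≫ t i = x)
    (T : Over S') (x : T ⟶ (Over.pullback π).obj X) :
    (∃ y, y ≫ (Over.pullback π).map f = x) ↔ ∀ i, x ≫ (Over.pullback π).map (t i) = x := by
  let adj := Over.mapPullbackAdj π
  constructor
  · rintro ⟨y, rfl⟩ i
    rw [Category.assoc, ← Functor.map_comp, (hF F f).mp ⟨𝟙 F, Category.id_comp f⟩ i]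
  · intro h
    obtain ⟨y, hy⟩ := (hF ((Over.map π).obj T) ((adj.homEquiv T X).symm x)).mpr fun i => by
      rw [← Adjunction.homEquiv_naturality_right_symm, h i]
    exact ⟨adj.homEquiv T F y, by rw [← Adjunction.homEquiv_naturality_right, hy, Equiv.apply_symm_apply]⟩

/-- The fixed locus of a periodic family of automorphisms of a smooth separated scheme is a smooth closed
subscheme when the period is invertible on the base. -/
theorem smooth_fixed_affine [IsAffine S] (hn : IsUnit (n : Γ(S, ⊤))) {X : Over S} [Smooth X.hom] [IsSeparated X.hom]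
    (t : ZMod n → (X ⟶ X)) (h0 : t 0 = 𝟙 X) (hadd : ∀ a b, t (a + b) = t a ≫ t b) (F : Over S) (f : F ⟶ X)
    [hf : IsClosedImmersion f.left]
    (hF : ∀ (T : Over S) (x : T ⟶ X), (∃ y : T ⟶ F, y ≫ f = x) ↔ ∀ i, x ≫ t i = x) :
    Smooth F.hom := by
  obtain ⟨B, _, _, hB, ⟨c⟩⟩ := exists_character Γ(S, ⊤) n
  let π : Spec (CommRingCat.of B) ⟶ S := Spec.map (CommRingCat.ofHom (algebraMap Γ(S, ⊤) B)) ≫ S.isoSpec.inv
  haveI : Flat (Spec.map (CommRingCat.ofHom (algebraMap Γ(S, ⊤) B))) := by
    rw [HasRingHomProperty.Spec_iff (P := @Flat)]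
    show RingHom.Flat (algebraMap Γ(S, ⊤) B)
    rw [RingHom.flat_algebraMap_iff]
    infer_instance
  haveI : Surjective (Spec.map (CommRingCat.ofHom (algebraMap Γ(S, ⊤) B))) :=
    ⟨PrimeSpectrum.comap_surjective_of_faithfullyFlat⟩
  haveI : Flat π := inferInstanceAs (Flat (_ ≫ _))
  haveI : Surjective π := inferInstanceAs (Surjective (_ ≫ _))
  haveI : QuasiCompact π := inferInstanceAs (QuasiCompact (_ ≫ _))
  let S' := Spec (CommRingCat.of B)
  haveI : Smooth ((Over.pullback π).obj X).hom := inferInstanceAs (Smooth (pullback.snd X.hom π))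
  haveI : IsSeparated ((Over.pullback π).obj X).hom := inferInstanceAs (IsSeparated (pullback.snd X.hom π))
  let c' : Character n Γ(S', ⊤) := c.map (Scheme.ΓSpecIso (CommRingCat.of B)).inv.hom
  obtain ⟨w, hw⟩ := hn.exists_right_inv
  have hw' : (n : Γ(S', ⊤)) * π.appTop.hom w = 1 := by
    rw [← map_natCast π.appTop.hom, ← map_mul, hw, map_one]
  obtain ⟨act, hact⟩ := exists_action c' _ hw' (fun i => (Over.pullback π).map (t i))
    (by rw [h0, CategoryTheory.Functor.map_id]) (fun a b => by rw [hadd, Functor.map_comp])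
  have hFB : ∀ (T : Over S') (x : T ⟶ (Over.pullback π).obj X),
      (∃ y, y ≫ (Over.pullback π).map f = x) ↔ MultTypeLib.FixedLift.FixPt act x := fun T x => by
    rw [hact]
    exact locus_bc π hF T x
  obtain ⟨F₀, f₀, hf₀, hf₀p, hF₀⟩ := MultTypeLib.FixedSmooth.exists_fixed_locus
    (TorusQI.isMultTypeFT_DS (ZMod n)) act
  haveI := hf₀; haveI := hf₀p
  haveI := MultTypeLib.FixedSmooth.smooth_fixed (TorusQI.isMultTypeFT_DS (ZMod n)) act F₀ f₀ hF₀
  haveI : Mono f := haveI : Mono f.left := inferInstance; Over.mono_of_mono_left _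
  haveI : Mono f₀ := haveI : Mono f₀.left := inferInstance; Over.mono_of_mono_left _
  haveI : (Over.pullback π).IsRightAdjoint := (Over.mapPullbackAdj π).isRightAdjoint
  obtain ⟨a, ha⟩ := (hFB F₀ f₀).mpr ((hF₀ F₀ f₀).mp ⟨𝟙 _, Category.id_comp _⟩)
  obtain ⟨b, hb⟩ := (hF₀ _ ((Over.pullback π).map f)).mpr ((hFB _ _).mp ⟨𝟙 _, Category.id_comp _⟩)
  have hba : b ≫ a = 𝟙 _ := by rw [← cancel_mono ((Over.pullback π).map f), Category.assoc, ha, hb, Category.id_comp]
  have hab : a ≫ b = 𝟙 _ := by rw [← cancel_mono f₀, Category.assoc, hb, ha, Category.id_comp]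
  haveI : IsIso b := ⟨a, hba, hab⟩
  haveI : IsIso b.left := inferInstanceAs (IsIso ((Over.forget _).map b))
  have hs : Smooth (pullback.snd F.hom π) := by
    have := Over.w b
    show Smooth ((Over.pullback π).obj F).hom
    rw [← Over.w b]
    infer_instance
  exact MorphismProperty.of_pullback_snd_of_descendsAlong (P := @Smooth)
    (Q := @Surjective ⊓ @Flat ⊓ @QuasiCompact) (f := F.hom) (g := π) ⟨⟨‹_›, ‹_›⟩, ‹_›⟩ hs

/-- The fixed locus of a periodic family of automorphisms of a smooth separated scheme is a smooth closed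
subscheme when the period is invertible on the base. -/
theorem exists_fixed (hn : IsUnit (n : Γ(S, ⊤))) {X : Over S} [Smooth X.hom] [IsSeparated X.hom]
    (t : ZMod n → (X ⟶ X)) (h0 : t 0 = 𝟙 X) (hadd : ∀ a b, t (a + b) = t a ≫ t b) :
    ∃ (F : Over S) (f : F ⟶ X), IsClosedImmersion f.left ∧ Smooth F.hom ∧
      ∀ (T : Over S) (x : T ⟶ X), (∃ y : T ⟶ F, y ≫ f = x) ↔ ∀ i, x ≫ t i = x := by
  obtain ⟨F, f, hf, hF⟩ := exists_locus t
  haveI := hf
  refine ⟨F, f, hf, IsZariskiLocalAtTarget.of_openCover S.affineCover fun i => ?_, hF⟩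
  let π := S.affineCover.f i
  haveI : Smooth ((Over.pullback π).obj X).hom := inferInstanceAs (Smooth (pullback.snd X.hom π))
  haveI : IsSeparated ((Over.pullback π).obj X).hom := inferInstanceAs (IsSeparated (pullback.snd X.hom π))
  haveI : IsClosedImmersion ((Over.pullback π).map f).left :=
    MorphismProperty.of_isPullback (P := @IsClosedImmersion) (GrpSchLib.HomSplitLocal.isPullback_map f π) hf
  have hn' : IsUnit (n : Γ(S.affineCover.X i, ⊤)) := by
    rw [← map_natCast π.appTop.hom]; exact hn.map _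
  exact smooth_fixed_affine hn' (fun i => (Over.pullback π).map (t i))
    (by rw [h0, CategoryTheory.Functor.map_id]) (fun a b => by rw [hadd, Functor.map_comp])
    ((Over.pullback π).obj F) ((Over.pullback π).map f) (locus_bc π hF)

/-- Commuting periodic families of automorphisms have a smooth common fixed locus. -/
theorem exists_fixed_family (hn : IsUnit (n : Γ(S, ⊤))) {X : Over S} [Smooth X.hom] [IsSeparated X.hom]
    {κ : Type*} [Finite κ] (t : κ → ZMod n → (X ⟶ X)) (h0 : ∀ k, t k 0 = 𝟙 X)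
    (hadd : ∀ k a b, t k (a + b) = t k a ≫ t k b) (hcomm : ∀ k l a b, t k a ≫ t l b = t l b ≫ t k a) :
    ∃ (F : Over S) (f : F ⟶ X), IsClosedImmersion f.left ∧ Smooth F.hom ∧
      ∀ (T : Over S) (x : T ⟶ X), (∃ y : T ⟶ F, y ≫ f = x) ↔ ∀ k i, x ≫ t k i = x := by
  classical
  haveI := Fintype.ofFinite κ
  suffices h : ∀ l : List κ, ∃ (F : Over S) (f : F ⟶ X), IsClosedImmersion f.left ∧ Smooth F.hom ∧
      ∀ (T : Over S) (x : T ⟶ X), (∃ y : T ⟶ F, y ≫ f = x) ↔ ∀ k ∈ l, ∀ i, x ≫ t k i = x by
    obtain ⟨F, f, h1, h2, h3⟩ := h (Finset.univ : Finset κ).toList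
    exact ⟨F, f, h1, h2, fun T x => (h3 T x).trans (by simp)⟩
  intro l
  induction l with
  | nil => exact ⟨X, 𝟙 X, inferInstanceAs (IsClosedImmersion (𝟙 X.left)), inferInstance, fun T x => by simp⟩
  | cons k l ih =>
    obtain ⟨F, f, hf, hFs, hF⟩ := ih
    haveI := hf; haveI := hFs
    haveI : IsSeparated F.hom := by rw [← Over.w f]; infer_instance
    haveI : Mono f := haveI : Mono f.left := inferInstance; Over.mono_of_mono_left _
    choose t' ht' using fun a => (hF F (f ≫ t k a)).mpr fun m hm i => by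
      rw [Category.assoc, hcomm, ← Category.assoc, (hF F f).mp ⟨𝟙 _, Category.id_comp f⟩ m hm i]
    obtain ⟨F', f', hf', hFs', hF'⟩ := exists_fixed (X := F) hn t'
      (by rw [← cancel_mono f, ht', h0, Category.comp_id, Category.id_comp])
      (fun a b => by rw [← cancel_mono f, ht', Category.assoc, ht', reassoc_of% ht', hadd])
    haveI := hf'
    refine ⟨F', f' ≫ f, inferInstanceAs (IsClosedImmersion (f'.left ≫ f.left)), hFs', fun T x => ?_⟩
    rw [List.forall_mem_cons, ← hF T x]
    constructor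
    · rintro ⟨z, rfl⟩
      refine ⟨fun i => ?_, z ≫ f', Category.assoc _ _ _⟩
      have h := congrArg (· ≫ f) ((hF' T (z ≫ f')).mp ⟨z, rfl⟩ i)
      simpa only [Category.assoc, ht'] using h
    · rintro ⟨h, z, rfl⟩
      obtain ⟨w, hw⟩ := (hF' T z).mpr fun i => by
        rw [← cancel_mono f, Category.assoc, ht', ← Category.assoc, h]
      exact ⟨w, by rw [← Category.assoc, hw]⟩

end Groth.Agent.TorsionCent
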