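import Groth.Agent.TorsionCent.Tuple
import Groth.Agent.MultTypeImage.Image
import Groth.Agent.MaxTorCent.Basic
import Groth.Agent.SolvGrp.TorusDense
import Groth.Agent.SolvGrp.SplitTools
import Groth.Agent.MaxTorTransp.Conj
import Groth.Agent.GrpSchLib.MultTypeLfp

/-!
# A torsion level whose centraliser is the centraliser of the torus
-/

universe u

open CategoryTheory CategoryTheory.Limits MonoidalCategory CartesianMonoidalCategory MonObj AlgebraicGeometry

set_option backward.isDefEq.respectTransparency false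
set_option backward.isDefEq.respectTransparency.types false
set_option linter.style.haveILetI false
set_option synthInstance.maxHeartbeats 80000
set_option autoImplicit false

namespace Groth.Agent.TorsionCent

open GrpSchLib AGFLib AGFLib.Gen AGFLib.BorelExist AGFLib.BorelFixed SolvGrp

section Field

variable {k : Type u} [Field k] [IsAlgClosed k]

local notation "PT" => 𝟙_ (Over (Spec (CommRingCat.of k)))

/-- A point commuting with the torsion of a torus commutes with the torus. -/
theorem comm_of_torsion {G T : Over (Spec (CommRingCat.of k))} [GrpObj G] [GrpObj T] [LocallyOfFiniteType G.hom]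
    (i : T ⟶ G) [IsMonHom i] (hT : Red.IsTorus T) {l : ℕ} (hl : l.Prime) (hlk : (l : k) ≠ 0) (g : PT ⟶ G)
    (h : ∀ (τ : PT ⟶ T) (j : ℕ), τ ^ l ^ j = 1 → g * (τ ≫ i) = (τ ≫ i) * g)
    (X : Over (Spec (CommRingCat.of k))) (x : X ⟶ T) :
    (toUnit X ≫ g) * (x ≫ i) = (x ≫ i) * (toUnit X ≫ g) := by
  haveI := GrpSchLib.AntiAffine.isSeparated_grp G
  haveI : LocallyOfFiniteType T.hom := haveI := MultTypeLfp.lfp (TorusQI.isMultTypeFT_of_isTorus hT); inferInstance
  obtain ⟨haT, hsT, -, -⟩ := torus_props hT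
  haveI := haT; haveI := hsT
  haveI : IsReduced T.left := isReduced_of_smooth_field T.hom
  suffices he : (toUnit T ≫ g) * i = i * (toUnit T ≫ g) by
    have h' := congrArg (x ≫ ·) he
    simp only [MonObj.comp_mul, ← Category.assoc, toUnit_unique (x ≫ toUnit T) (toUnit X)] at h'
    exact h'
  let f₁ : T ⟶ G := (toUnit T ≫ g) * i
  let f₂ : T ⟶ G := i * (toUnit T ≫ g)
  let d : G ⟶ G ⊗ G := lift (𝟙 G) (𝟙 G)
  have hd : d.left = pullback.diagonal G.hom := by
    apply pullback.hom_ext
    · exact (congrArg CommaMorphism.left (lift_fst (𝟙 G) (𝟙 G))).trans (pullback.diagonal_fst G.hom).symm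
    · exact (congrArg CommaMorphism.left (lift_snd (𝟙 G) (𝟙 G))).trans (pullback.diagonal_snd G.hom).symm
  haveI : IsClosedImmersion d.left := by rw [hd]; infer_instance
  let m : T ⟶ G ⊗ G := lift f₁ f₂
  let E : Over (Spec (CommRingCat.of k)) := Over.mk (pullback.fst m.left d.left ≫ T.hom)
  let e : E ⟶ T := Over.homMk (pullback.fst m.left d.left) rfl
  haveI : IsClosedImmersion e.left := inferInstanceAs (IsClosedImmersion (pullback.fst m.left d.left))
  haveI : LocallyOfFiniteType E.hom := by rw [← Over.w e]; infer_instance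
  have he : e ≫ f₁ = e ≫ f₂ := by
    let b : E ⟶ G := Over.homMk (pullback.snd m.left d.left) (by
      rw [← Over.w d, ← Category.assoc, ← pullback.condition, Category.assoc, Over.w m]; rfl)
    have h1 : e ≫ m = b ≫ d := Over.OverMorphism.ext pullback.condition
    have h2 := congrArg (fun p => p ≫ fst G G) h1
    have h3 := congrArg (fun p => p ≫ snd G G) h1
    simp [m, d] at h2 h3
    rw [h2, h3]
  have hrange : Set.range e.left = Set.univ := by
    refine eq_univ_of_torsion hT hl hlk _ e.left.isClosedEmbedding.isClosed_range fun τ j hτ => ?_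
    have ht : τ ≫ f₁ = τ ≫ f₂ := by
      simp only [f₁, f₂, MonObj.comp_mul, ← Category.assoc, toUnit_unique (τ ≫ toUnit T) (toUnit PT),
        toUnit_unique (toUnit PT) (𝟙 PT), Category.id_comp]
      exact h τ j hτ
    have h1 : τ ≫ m = (τ ≫ f₁) ≫ d := by
      simp only [m, d, comp_lift, Category.comp_id, ← ht]
    let z : PT ⟶ E := Over.homMk (pullback.lift τ.left (τ ≫ f₁).left (congrArg CommaMorphism.left h1)) (by
      show pullback.lift _ _ _ ≫ pullback.fst _ _ ≫ T.hom = _
      rw [pullback.lift_fst_assoc, Over.w τ])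
    exact ⟨z.left (IsLocalRing.closedPoint k), by
      rw [← Scheme.Hom.comp_apply]
      exact congrArg (fun p : _ ⟶ T.left => p _) (pullback.lift_fst _ _ _)⟩
  refine hom_ext_pts fun t => ?_
  obtain ⟨w, hw⟩ := exists_of_mem_range e t (by rw [hrange]; trivial)
  rw [← hw, Category.assoc, Category.assoc]
  exact congrArg (w ≫ ·) he

end Field

variable {S : Scheme.{u}}

open Topology in
theorem isCompact_of_constructible {X : Scheme.{u}} [CompactSpace X] [QuasiSeparatedSpace X] {s : Set X}
    (hs : IsConstructible s) : IsCompact s := by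
  have : Nonempty X.affineOpens := ⟨⟨⊥, isAffineOpen_bot X⟩⟩
  have hb : TopologicalSpace.IsTopologicalBasis
      (Set.range fun A : X.affineOpens => ((A.1 : X.Opens) : Set X)) := by
    have h := X.isBasis_affineOpens
    rw [TopologicalSpace.Opens.IsBasis] at h
    convert h using 1
    ext t
    simp
  refine IsConstructible.induction_of_isTopologicalBasis (P := fun s _ => IsCompact s) _ hb
    (fun A => A.2.isCompact) (fun A t ht => ?_) (fun s _ t _ hs ht => hs.union ht) s hs
  exact A.2.isCompact.diff (isOpen_biUnion fun B _ => B.1.2)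

theorem npow_comp' {A B X : Over S} [GrpObj A] [GrpObj B] (a : X ⟶ A) (c : A ⟶ B) [IsMonHom c] (m : ℕ) :
    (a ^ m) ≫ c = (a ≫ c) ^ m := by
  induction m with
  | zero => rw [pow_zero, pow_zero]; exact MonObj.one_comp c
  | succ m ih => rw [pow_succ, pow_succ, ← ih]; exact MonObj.mul_comp _ _ c

theorem theta_npow {S' : Scheme.{u}} (f : S' ⟶ S) {A : Over S} [GrpObj A] {Y : Over S'} (a : Y ⟶ Red.bc f A) (m : ℕ) :
    DSPtsLib.theta f (a ^ m) = DSPtsLib.theta f a ^ m := by
  induction m with
  | zero => rw [pow_zero, pow_zero, HomUnitLocus.theta_one]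
  | succ m ih => rw [pow_succ, pow_succ, DSPtsLib.theta_mul, ih]

/-- Points of a geometric fibre lying set-theoretically in a closed subscheme factor through it. -/
theorem exists_factor_of_mem {Ω : Type u} [Field Ω] (b : Spec (CommRingCat.of Ω) ⟶ S) {Z G : Over S} (z : Z ⟶ G)
    [IsClosedImmersion z.left] (g : 𝟙_ (Over (Spec (CommRingCat.of Ω))) ⟶ Red.bc b G)
    (h : (DSPtsLib.theta b g).left (IsLocalRing.closedPoint Ω) ∈ Set.range z.left) :
    ∃ w, w ≫ z = DSPtsLib.theta b g := by
  let p : Spec (CommRingCat.of Ω) ⟶ G.left := (DSPtsLib.theta b g).left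
  haveI : Subsingleton ↥(Spec (CommRingCat.of Ω)) := inferInstanceAs (Subsingleton (PrimeSpectrum Ω))
  obtain ⟨l, hl⟩ := H23.RedSub.exists_lift_closed p z.left (by
    rintro _ ⟨q, rfl⟩
    rwa [Subsingleton.elim q (IsLocalRing.closedPoint Ω)])
  refine ⟨Over.homMk l ?_, Over.OverMorphism.ext hl⟩
  rw [← Over.w z, reassoc_of% hl]
  exact Over.w (DSPtsLib.theta b g)

/-- A torsion level at which, on every geometric fibre, commuting with the torsion points of the torus forces
membership in the centraliser of the torus. -/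
theorem exists_level [IsAffine S] {G T C : Over S} [GrpObj G] [GrpObj T] [GrpObj C] [Smooth G.hom]
    [IsSeparated G.hom] [QuasiCompact G.hom] [Smooth C.hom] (i : T ⟶ G) [IsMonHom i] (hT : Red.IsTorus T)
    (c : C ⟶ G) [IsClosedImmersion c.left] (hc : Red.IsCentralizerOf i c) (q : ℕ) (hq : q.Prime)
    (hqu : IsUnit (q : Γ(S, ⊤))) :
    ∃ m : ℕ, ∀ (Ω : Type u) [Field Ω] [IsAlgClosed Ω] (b : Spec (CommRingCat.of Ω) ⟶ S)
      (g : 𝟙_ (Over (Spec (CommRingCat.of Ω))) ⟶ Red.bc b G),
      (∀ τ : 𝟙_ (Over (Spec (CommRingCat.of Ω))) ⟶ Red.bc b T, τ ^ q ^ m = 1 →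
        g * (τ ≫ (Over.pullback b).map i) = (τ ≫ (Over.pullback b).map i) * g) →
      ∃ w, w ≫ (Over.pullback b).map c = g := by
  classical
  have hTm := TorusQI.isMultTypeFT_of_isTorus hT
  haveI := MultTypeLfp.lfp hTm
  haveI : IsAffineHom T.hom := (TransLib.multTypeFT_essFree hTm).1
  haveI : IsCommMonObj T := ⟨by
    rw [show μ[T] = fst T T * snd T T by rw [Hom.mul_def, lift_fst_snd, Category.id_comp], MonObj.comp_mul,
      braiding_hom_fst, braiding_hom_snd,
      GrpSchLib.MultTypeComm.points_comm hTm (snd T T) (fst T T)]⟩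
  have hpw : ∀ j : ℕ, IsMonHom ((𝟙 T : T ⟶ T) ^ q ^ j) := fun j => AGFLib.isMonHom_of_mul _ fun X a b => by
    rw [comp_npow', comp_npow', comp_npow', Category.comp_id, Category.comp_id, Category.comp_id]
    exact (show Commute a b from GrpSchLib.MultTypeComm.points_comm hTm a b).mul_pow _
  choose K iK κ hκ hκm hKm hK using fun j => haveI := hpw j; TorusQI.exists_kernel hTm hTm ((𝟙 T : T ⟶ T) ^ q ^ j)
  have hK' : ∀ j (Y : Over S) (h : Y ⟶ T), h ^ q ^ j = 1 ↔ ∃ l, l ≫ κ j = h := fun j Y h => by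
    rw [← hK j, comp_npow', Category.comp_id]
  haveI := hκ; haveI := hκm
  choose Z iZ z hz hzc hzs using fun j => MaxTorCent.exists_centralizer (κ j ≫ i) (hKm j)
  haveI := hzc; haveI := hzs
  haveI : LocallyOfFinitePresentation c.left := by
    haveI : LocallyOfFinitePresentation (c.left ≫ G.hom) := by rw [Over.w c]; infer_instance
    exact AlgSpPts.locallyOfFinitePresentation_of_comp c.left G.hom
  haveI : CompactSpace G.left := QuasiCompact.compactSpace_of_compactSpace G.hom
  haveI : QuasiSeparatedSpace G.left := quasiSeparatedSpace_of_quasiSeparated G.hom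
  have hO : IsCompact (Set.range c.left)ᶜ := by
    haveI : QuasiCompact c.left := inferInstance
    have h : Topology.IsLocallyConstructible (Set.range c.left) := by
      rw [← Set.image_univ]
      exact c.left.isLocallyConstructible_image Topology.IsLocallyConstructible.univ
    exact isCompact_of_constructible h.isConstructible.compl
  -- the points outside the centraliser commuting with the torsion of level `j`
  let A : ℕ → Set G.left := fun j => Set.range (z j).left
  have hA : ∀ j, IsClosed (A j) := fun j => (z j).left.isClosedEmbedding.isClosed_range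
  have hanti : ∀ i₁ i₂, i₁ ≤ i₂ → A i₂ ⊆ A i₁ := by
    intro i₁ i₂ h
    obtain ⟨l, hl⟩ := (hK' i₂ _ (κ i₁)).mp (by
      rw [show q ^ i₂ = q ^ i₁ * q ^ (i₂ - i₁) by rw [← pow_add, Nat.add_sub_cancel' h], pow_mul,
        (hK' i₁ _ (κ i₁)).mpr ⟨𝟙 _, Category.id_comp _⟩, one_pow])
    obtain ⟨w, hw⟩ := ((hz i₁).2.2 _ (z i₂)).mpr fun X x a => by
      have := ((hz i₂).2.2 _ (z i₂)).mp ⟨𝟙 _, Category.id_comp _⟩ X x (a ≫ l)
      simpa only [Category.assoc, reassoc_of% hl] using this
    rintro _ ⟨p, rfl⟩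
    exact ⟨w.left p, by rw [← Scheme.Hom.comp_apply, ← Over.comp_left, hw]⟩
  have hinter : (Set.range c.left)ᶜ ∩ ⋂ j, A j = ∅ := by
    refine Set.eq_empty_of_forall_notMem fun x ⟨hx, hxA⟩ => hx ?_
    rw [Set.mem_iInter] at hxA
    let Ω := AlgebraicClosure (G.left.residueField x)
    let pt : Spec (CommRingCat.of Ω) ⟶ G.left :=
      Spec.map (CommRingCat.ofHom (algebraMap (G.left.residueField x) Ω)) ≫ G.left.fromSpecResidueField x
    have hpt : pt (IsLocalRing.closedPoint Ω) = x := by
      rw [Scheme.Hom.comp_apply]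
      exact Scheme.fromSpecResidueField_apply x _
    let b := pt ≫ G.hom
    obtain ⟨g, hg⟩ := (DSPtsLib.theta_bijective (g := b) (H := G)).2
      (Over.homMk pt (Category.id_comp b).symm : (Over.map b).obj (𝟙_ _) ⟶ G)
    have hgl : (DSPtsLib.theta b g).left = pt := congrArg CommaMorphism.left hg
    obtain ⟨p₀, hp₀⟩ := hqu
    have hqΩ : (q : Ω) ≠ 0 := by
      have h := ((hp₀ ▸ p₀.isUnit : IsUnit (q : Γ(S, ⊤))).map b.appTop.hom).map
        (Scheme.ΓSpecIso (CommRingCat.of Ω)).hom.hom
      rw [map_natCast, map_natCast] at h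
      exact h.ne_zero
    haveI : LocallyOfFiniteType (Red.bc b G).hom := inferInstanceAs (LocallyOfFiniteType (pullback.snd G.hom b))
    obtain ⟨w, hw⟩ := ((SolvGrp.isCentralizerOf_bc b i c hc).2.2 _ g).mpr fun X x a => by
      have h := comm_of_torsion ((Over.pullback b).map i) (SolvGrp.isTorus_bc b hT) hq hqΩ g (fun τ j hτ => by
        obtain ⟨l, hl⟩ := (hK' j _ (DSPtsLib.theta b τ)).mp (by rw [← theta_npow, hτ, HomUnitLocus.theta_one])
        obtain ⟨y, hy⟩ := exists_factor_of_mem b (z j) g (by rw [hgl]; exact (congrArg (· ∈ A j) hpt).mpr (hxA j))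
        have h := ((hz j).2.2 _ (DSPtsLib.theta b g)).mp ⟨y, hy⟩ _ (𝟙 _) l
        rw [Category.id_comp, ← Category.assoc, hl, ← HomUnitLocus.theta_comp_map, ← DSPtsLib.theta_mul,
          ← DSPtsLib.theta_mul] at h
        exact (DSPtsLib.theta_bijective b).1 h) X a
      rwa [toUnit_unique x (toUnit X)]
    refine ⟨(DSPtsLib.theta b w).left (IsLocalRing.closedPoint Ω), ?_⟩
    rw [← hw, HomUnitLocus.theta_comp_map] at hgl
    rw [← Scheme.Hom.comp_apply, ← Over.comp_left, hgl]
    exact hpt
  obtain ⟨m, hm⟩ := hO.elim_directed_family_closed A hA hinter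
    (fun i₁ i₂ => ⟨max i₁ i₂, hanti _ _ (le_max_left _ _), hanti _ _ (le_max_right _ _)⟩)
  refine ⟨m, fun Ω _ _ b g hg => ?_⟩
  haveI : LocallyOfFiniteType (Red.bc b G).hom := inferInstanceAs (LocallyOfFiniteType (pullback.snd G.hom b))
  haveI : IsSeparated (Red.bc b G).hom := inferInstanceAs (IsSeparated (pullback.snd G.hom b))
  haveI : Smooth (Red.bc b T).hom := (torus_props (SolvGrp.isTorus_bc b hT)).2.1
  haveI : IsSeparated (Red.bc b T).hom := GrpSchLib.AntiAffine.isSeparated_grp _
  haveI : QuasiCompact (Red.bc b T).hom := inferInstanceAs (QuasiCompact (pullback.snd T.hom b))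
  haveI : NeZero (q ^ m) := ⟨pow_ne_zero _ hq.ne_zero⟩
  have hn : IsUnit ((q ^ m : ℕ) : Γ(Spec (CommRingCat.of Ω), ⊤)) := by
    rw [← map_natCast b.appTop.hom, Nat.cast_pow, map_pow]
    exact (hqu.map _).pow m
  obtain ⟨H, x₁, hHs, -, -, hx0, hxadd, hxuniv⟩ := exists_homScheme (G := Red.bc b T) hn 1
  haveI := hHs
  haveI : IsReduced H.left := isReduced_of_smooth_field H.hom
  haveI : LocallyOfFiniteType H.hom := inferInstance
  let e₁ : Fin 1 → ZMod (q ^ m) := fun _ => 1
  have hx₁ : ∀ k : ℕ, x₁ (k • e₁) = x₁ e₁ ^ k := fun k => by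
    induction k with
    | zero => rw [zero_smul, hx0, pow_zero]
    | succ k ih => rw [succ_nsmul, hxadd, ih, pow_succ]
  have hx₁n : x₁ e₁ ^ q ^ m = 1 := by
    rw [← hx₁, show (q ^ m) • e₁ = 0 from funext fun _ => by
      rw [Pi.smul_apply, nsmul_one, ZMod.natCast_self, Pi.zero_apply], hx0]
  have huniv : (toUnit H ≫ g) * (x₁ e₁ ≫ (Over.pullback b).map i) =
      (x₁ e₁ ≫ (Over.pullback b).map i) * (toUnit H ≫ g) := by
    refine hom_ext_pts fun t => ?_
    simp only [MonObj.comp_mul, ← Category.assoc, toUnit_unique (t ≫ toUnit H) (toUnit _),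
      toUnit_unique (toUnit (𝟙_ (Over (Spec (CommRingCat.of Ω))))) (𝟙 _), Category.id_comp]
    exact hg _ (by rw [← comp_npow', hx₁n, MonObj.comp_one])
  -- so the point lies in the centraliser of the torsion subgroup
  obtain ⟨y, hy⟩ := ((SolvGrp.isCentralizerOf_bc b (κ m ≫ i) (z m) (hz m)).2.2 _ g).mpr fun X x a => by
    have ha : (a ≫ (Over.pullback b).map (κ m)) ^ q ^ m = 1 := by
      apply (DSPtsLib.theta_bijective b).1
      rw [theta_npow, HomUnitLocus.theta_one, HomUnitLocus.theta_comp_map, hK']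
      exact ⟨_, rfl⟩
    obtain ⟨l, hl⟩ := hxuniv X (fun v => (a ≫ (Over.pullback b).map (κ m)) ^ (v 0).val) fun v w => by
      rw [← pow_add, Pi.add_apply, ZMod.val_add, ← pow_eq_pow_mod _ ha]
    have h' : l ≫ x₁ e₁ = a ≫ (Over.pullback b).map (κ m) := by
      rw [hl]
      rcases eq_or_ne (q ^ m) 1 with h1 | h1
      · rw [h1, pow_one] at ha
        show (a ≫ _) ^ _ = _
        rw [ha, one_pow]
      · haveI : Fact (1 < q ^ m) := ⟨by have := pow_ne_zero m hq.ne_zero; omega⟩
        show (a ≫ _) ^ (1 : ZMod (q ^ m)).val = _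
        rw [ZMod.val_one, pow_one]
    have h2 := congrArg (l ≫ ·) huniv
    simp only [MonObj.comp_mul, ← Category.assoc, toUnit_unique (l ≫ toUnit H) (toUnit X), h'] at h2
    rw [toUnit_unique x (toUnit X), Functor.map_comp, ← Category.assoc a]
    exact h2
  haveI : IsClosedImmersion ((Over.pullback b).map c).left :=
    MorphismProperty.of_isPullback (P := @IsClosedImmersion) (HomSplitLocal.isPullback_map c b) ‹_›
  have hp : (DSPtsLib.theta b g).left (IsLocalRing.closedPoint Ω) ∈ Set.range c.left := by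
    by_contra hp
    have hpz : (DSPtsLib.theta b g).left (IsLocalRing.closedPoint Ω) ∈ A m := by
      refine ⟨(DSPtsLib.theta b y).left (IsLocalRing.closedPoint Ω), ?_⟩
      rw [← Scheme.Hom.comp_apply, ← Over.comp_left, ← HomUnitLocus.theta_comp_map, hy]
    exact Set.eq_empty_iff_forall_notMem.mp hm _ ⟨hp, hpz⟩
  obtain ⟨w, hw⟩ := exists_factor_of_mem b c g hp
  obtain ⟨w', hw'⟩ := (DSPtsLib.theta_bijective b).2 w
  exact ⟨w', (DSPtsLib.theta_bijective b).1 (by rw [HomUnitLocus.theta_comp_map, hw', hw])⟩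

end Groth.Agent.TorsionCent
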