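import Mathlib.RingTheory.Polynomial.Cyclotomic.Roots
import Mathlib.RingTheory.AdjoinRoot
import Mathlib.RingTheory.Flat.Basic
import Mathlib.RingTheory.RingHom.Flat
import Mathlib.RingTheory.IntegralClosure.IntegrallyClosed
import Mathlib.Analysis.Complex.Polynomial.Basic
import Mathlib.RingTheory.RootsOfUnity.Complex
import Mathlib.NumberTheory.LegendreSymbol.AddCharacter
import Mathlib.AlgebraicGeometry.Morphisms.Flat
import Mathlib.AlgebraicGeometry.Morphisms.Affine

/-!
# Characters of `ZMod n` with values in a ring, and the idempotents they define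
-/

universe u

open Polynomial AlgebraicGeometry CategoryTheory

namespace Groth.Agent.TorsionCent

variable {R : Type*} [CommRing R] {n : ℕ} [NeZero n]

/-- A multiplicative function on `ZMod n` satisfying the orthogonality relations. -/
structure Character (n : ℕ) [NeZero n] (R : Type*) [CommRing R] where
  χ : ZMod n → R
  map_zero : χ 0 = 1
  map_add : ∀ a b, χ (a + b) = χ a * χ b
  orth : ∀ i, i ≠ 0 → ∑ m, χ (i * m) = 0

/-- The image of a character in another ring. -/
def Character.map {R' : Type*} [CommRing R'] (c : Character n R) (φ : R →+* R') : Character n R' where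
  χ a := φ (c.χ a)
  map_zero := by rw [c.map_zero, _root_.map_one]
  map_add a b := by rw [c.map_add, _root_.map_mul]
  orth i hi := by rw [← map_sum, c.orth i hi, _root_.map_zero]

/-- The idempotent of `a` attached to a function on `ZMod n`. -/
def Character.idem (c : Character n R) (u : R) (f : ZMod n → R) (a : ZMod n) : R :=
  u * ∑ m, c.χ (-(a * m)) * f m

variable (c : Character n R) (u : R) (hu : (n : R) * u = 1) (f : ZMod n → R) (hf0 : f 0 = 1)
  (hf : ∀ a b, f (a + b) = f a * f b)

include hu hf0 in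
theorem Character.sum_idem : ∑ a, c.idem u f a = 1 := by
  simp only [Character.idem, ← Finset.mul_sum]
  rw [Finset.sum_comm]
  simp only [← Finset.sum_mul]
  rw [Finset.sum_eq_single (0 : ZMod n) (fun m _ hm => by
    rw [show (fun a => c.χ (-(a * m))) = (fun a => c.χ (-m * a)) from funext fun a => by ring_nf,
      c.orth _ (neg_ne_zero.mpr hm), zero_mul]) (fun h => absurd (Finset.mem_univ _) h)]
  simp [c.map_zero, hf0, mul_comm u, hu]

include hf in
theorem Character.idem_mul (a k : ZMod n) : f k * c.idem u f a = c.χ (a * k) * c.idem u f a := by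
  simp only [Character.idem, Finset.mul_sum]
  rw [← Equiv.sum_comp (Equiv.addRight k) (fun m => c.χ (a * k) * (u * (c.χ (-(a * m)) * f m)))]
  refine Finset.sum_congr rfl fun m _ => ?_
  have h1 : c.χ (a * k) * c.χ (-(a * (m + k))) = c.χ (-(a * m)) := by
    rw [← c.map_add]; congr 1; ring
  simp only [Equiv.coe_addRight, hf]
  rw [← h1]
  ring

include hu hf in
theorem Character.idem_mul_idem {a b : ZMod n} (h : a ≠ b) : c.idem u f b * c.idem u f a = 0 := by
  have h1 : c.idem u f b * c.idem u f a = u * ∑ m, c.χ ((a - b) * m) * c.idem u f a := by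
    conv_lhs => rw [Character.idem, mul_assoc, Finset.sum_mul]
    congr 1
    refine Finset.sum_congr rfl fun m _ => ?_
    rw [mul_assoc, c.idem_mul u f hf, ← mul_assoc, ← c.map_add]
    congr 2; ring
  rw [h1, ← Finset.sum_mul, c.orth _ (sub_ne_zero.mpr h), zero_mul, mul_zero]

include hu hf0 hf in
theorem Character.idem_sq (a : ZMod n) : c.idem u f a * c.idem u f a = c.idem u f a := by
  conv_rhs => rw [← one_mul (c.idem u f a), ← c.sum_idem u hu f hf0, Finset.sum_mul]
  rw [Finset.sum_eq_single a (fun b _ hb => c.idem_mul_idem u hu f hf (Ne.symm hb))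
    (fun h => absurd (Finset.mem_univ _) h)]

/-- Over a finite free extension there is a character. -/
theorem exists_character (A : Type u) [CommRing A] (n : ℕ) [NeZero n] :
    ∃ (B : Type u) (_ : CommRing B) (_ : Algebra A B), Module.FaithfullyFlat A B ∧ Nonempty (Character n B) := by
  rcases subsingleton_or_nontrivial A with hA | hA
  · exact ⟨A, inferInstance, Algebra.id A, inferInstance,
      ⟨⟨fun _ => 1, rfl, fun _ _ => (mul_one (1 : A)).symm, fun _ _ => Subsingleton.elim _ _⟩⟩⟩
  let Φ := cyclotomic n A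
  have hΦ : Φ.Monic := cyclotomic.monic n A
  have hdeg : Φ.natDegree ≠ 0 := by
    rw [natDegree_cyclotomic]; exact (Nat.totient_pos.mpr (NeZero.pos n)).ne'
  haveI : Nontrivial (AdjoinRoot Φ) := by
    let b := (AdjoinRoot.powerBasis' hΦ).basis
    have i : Fin (AdjoinRoot.powerBasis' hΦ).dim := ⟨0, Nat.pos_of_ne_zero (by simpa using hdeg)⟩
    exact nontrivial_of_ne (b i) 0 (b.ne_zero i)
  haveI : Module.Free A (AdjoinRoot Φ) := hΦ.free_adjoinRoot
  refine ⟨AdjoinRoot Φ, inferInstance, inferInstance, inferInstance, ?_⟩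
  let r := AdjoinRoot.root Φ
  have hr : r ^ n = 1 := by
    obtain ⟨g, hg⟩ := cyclotomic.dvd_X_pow_sub_one n A
    have := congrArg (AdjoinRoot.mk Φ) hg
    rw [_root_.map_mul, show AdjoinRoot.mk Φ (cyclotomic n A) = 0 from AdjoinRoot.mk_self, zero_mul, map_sub, map_pow,
      AdjoinRoot.mk_X, _root_.map_one, sub_eq_zero] at this
    exact this
  refine ⟨⟨fun a => r ^ a.val, by simp, fun a b => by
    rw [← pow_add, ZMod.val_add, ← pow_eq_pow_mod _ hr], fun i hi => ?_⟩⟩
  -- orthogonality holds in a universal domain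
  let μ : ℂ := Complex.exp (2 * Real.pi * Complex.I / n)
  have hμ : IsPrimitiveRoot μ n := Complex.isPrimitiveRoot_exp n (NeZero.ne n)
  let P : Polynomial ℤ := ∑ m : ZMod n, X ^ (i * m).val
  have hP : cyclotomic n ℤ ∣ P := by
    rw [cyclotomic_eq_minpoly hμ (NeZero.pos n)]
    refine minpoly.isIntegrallyClosed_dvd (hμ.isIntegral (NeZero.pos n)) ?_
    simp only [P, map_sum, map_pow, aeval_X]
    have h1 : μ ^ i.val ≠ 1 := fun h => hi (by
      have := hμ.dvd_of_pow_eq_one _ h
      rw [← ZMod.val_eq_zero]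
      exact Nat.eq_zero_of_dvd_of_lt this (ZMod.val_lt i))
    have hμn : μ ^ n = 1 := hμ.pow_eq_one
    have h2 : μ ^ i.val * ∑ m : ZMod n, μ ^ (i * m).val = ∑ m : ZMod n, μ ^ (i * m).val := by
      conv_rhs => rw [← Equiv.sum_comp (Equiv.addRight (1 : ZMod n))]
      rw [Finset.mul_sum]
      refine Finset.sum_congr rfl fun m _ => ?_
      rw [Equiv.coe_addRight, mul_add, mul_one, ← pow_add, ZMod.val_add, ← pow_eq_pow_mod _ hμn, add_comm]
    by_contra hne
    exact h1 (mul_right_cancel₀ hne (by rw [h2, one_mul]))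
  obtain ⟨g, hg⟩ := hP
  have := congrArg (fun p : Polynomial ℤ => AdjoinRoot.mk Φ (p.map (Int.castRingHom A))) hg
  simp only [P, Polynomial.map_sum, Polynomial.map_pow, Polynomial.map_X, Polynomial.map_mul, map_cyclotomic, map_sum,
    map_pow, AdjoinRoot.mk_X, _root_.map_mul] at this
  rw [show AdjoinRoot.mk Φ (cyclotomic n A) = 0 from AdjoinRoot.mk_self, zero_mul] at this
  exact this

end Groth.Agent.TorsionCent
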